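import Groth.Prelude.Def_Mor2
import Mathlib.AlgebraicGeometry.IdealSheaf.Functorial
import Mathlib.AlgebraicGeometry.PullbackCarrier
import Mathlib.AlgebraicGeometry.Morphisms.ClosedImmersion
import Mathlib.RingTheory.Regular.RegularSequence

/-!
A closed immersion is regular when affine charts of the target cut it out by weakly regular sequences.
-/

set_option autoImplicit false
set_option linter.style.haveILetI false
universe u

open AlgebraicGeometry CategoryTheory Limits RingTheory.Sequence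

namespace L02.CAlg.QFSlice

theorem isWeaklyRegular_map_equiv {A B : Type u} [CommRing A] [CommRing B] (e : A ≃+* B) {rs : List A}
    (h : IsWeaklyRegular A rs) : IsWeaklyRegular B (rs.map e) := by
  refine (e.toAddEquiv.isWeaklyRegular_congr (as := rs) (bs := rs.map e) ?_).mp h
  exact List.forall₂_map_right_iff.mpr (List.forall₂_same.mpr fun r _ x => by simp)

/-- A chart `φ : Spec A ⟶ Y` in which the closed immersion `i` is cut out by the sequence `rs`. -/
theorem isRegularClosedImmersion_of_charts {Z Y : Scheme.{u}} (i : Z ⟶ Y) [IsClosedImmersion i]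
    (H : ∀ z : Z, ∃ (A : CommRingCat.{u}) (φ : Spec A ⟶ Y) (_ : IsOpenImmersion φ) (rs : List A)
      (b : Spec (CommRingCat.of (↑A ⧸ Ideal.ofList rs)) ⟶ Z),
      i z ∈ Set.range φ ∧ IsWeaklyRegular A rs ∧
      IsPullback (Spec.map (CommRingCat.ofHom (Ideal.Quotient.mk (Ideal.ofList rs)))) b φ i) :
    Mor2.IsRegularClosedImmersion i := by
  refine ⟨inferInstance, fun z => ?_⟩
  obtain ⟨A, φ, _, rs, b, hz, hreg, hP⟩ := H z
  let π := Spec.map (CommRingCat.ofHom (Ideal.Quotient.mk (Ideal.ofList rs)))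
  let W : (Spec A).affineOpens := ⟨⊤, isAffineOpen_top _⟩
  let U := φ ''ᵁ (⊤ : (Spec A).Opens)
  have hU : IsAffineOpen U := W.2.image_of_isOpenImmersion φ
  have hzU : i z ∈ U := by
    obtain ⟨a, ha⟩ := hz
    exact ⟨a, trivial, ha⟩
  let e : A ≃+* Γ(Y, U) :=
    (((Scheme.ΓSpecIso A).symm).trans (φ.appIso ⊤).symm).commRingCatIsoToRingEquiv
  have hker : i.ker.ideal ⟨U, hU⟩ = Ideal.ofList (rs.map e) := by
    have h1 : π.ker.ideal W = (i.ker.ideal ⟨U, hU⟩).comap (φ.appIso ⊤).inv.hom :=
      Scheme.ker_ideal_of_isPullback_of_isOpenImmersion i π b φ hP W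
    have h2 : π.ker.ideal W = (Ideal.ofList rs).map (Scheme.ΓSpecIso A).inv.hom := by
      rw [Scheme.Hom.ker_apply]
      have happ : π.appTop = ((Scheme.ΓSpecIso A).hom ≫ CommRingCat.ofHom (Ideal.Quotient.mk (Ideal.ofList rs))) ≫
          (Scheme.ΓSpecIso _).inv :=
        (Iso.eq_comp_inv _).mpr (Scheme.ΓSpecIso_naturality (CommRingCat.ofHom (Ideal.Quotient.mk (Ideal.ofList rs))))
      show RingHom.ker π.appTop.hom = _
      rw [happ]
      refine (RingHom.ker_comp_of_injective ((CommRingCat.ofHom (Ideal.Quotient.mk (Ideal.ofList rs))).hom.comp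
        (Scheme.ΓSpecIso A).hom.hom) (Scheme.ΓSpecIso _).symm.commRingCatIsoToRingEquiv.injective).trans ?_
      rw [← RingHom.comap_ker]
      simp only [CommRingCat.hom_ofHom, Ideal.mk_ker]
      exact (Ideal.map_symm (Scheme.ΓSpecIso A).commRingCatIsoToRingEquiv).symm
    have h3 : i.ker.ideal ⟨U, hU⟩ =
        ((i.ker.ideal ⟨U, hU⟩).comap (φ.appIso ⊤).inv.hom).map (φ.appIso ⊤).inv.hom :=
      (Ideal.map_comap_of_surjective _ (φ.appIso ⊤).symm.commRingCatIsoToRingEquiv.surjective _).symm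
    rw [h3, ← h1, h2, Ideal.map_map, Ideal.map_ofList]
    rfl
  refine ⟨U, hU, hzU, rs.map e, ⟨isWeaklyRegular_map_equiv e hreg, fun htop => ?_⟩, hker⟩
  have htop' : i.ker.ideal ⟨U, hU⟩ = ⊤ := by
    rw [hker]
    exact (htop.trans (by simp)).symm
  have hsupp : i z ∈ i.ker.support := i.range_subset_ker_support ⟨z, rfl⟩
  rw [Scheme.IdealSheafData.mem_support_iff_of_mem (U := ⟨U, hU⟩) hzU, htop'] at hsupp
  rw [Scheme.mem_zeroLocus_iff] at hsupp
  exact hsupp 1 trivial (by simp [Scheme.basicOpen_of_isUnit _ isUnit_one, hzU])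

/-- The quotient of a base change is the base change of the quotient. -/
theorem isPullback_Spec_quotient {D D' : Type u} [CommRing D] [CommRing D'] (j : D →+* D') (I : Ideal D)
    (I' : Ideal D') (h : I' = I.map j) :
    ∃ b : Spec (CommRingCat.of (D' ⧸ I')) ⟶ Spec (CommRingCat.of (D ⧸ I)),
      IsPullback (Spec.map (CommRingCat.ofHom (Ideal.Quotient.mk I'))) b
        (Spec.map (CommRingCat.ofHom j)) (Spec.map (CommRingCat.ofHom (Ideal.Quotient.mk I))) := by
  let jq : D ⧸ I →+* D' ⧸ I' := Ideal.quotientMap I' j (Ideal.map_le_iff_le_comap.mp h.ge)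
  have hw : CommRingCat.ofHom j ≫ CommRingCat.ofHom (Ideal.Quotient.mk I') =
      CommRingCat.ofHom (Ideal.Quotient.mk I) ≫ CommRingCat.ofHom jq := by
    ext x
    rfl
  refine ⟨Spec.map (CommRingCat.ofHom jq), ?_⟩
  have hpo : IsPushout (CommRingCat.ofHom j) (CommRingCat.ofHom (Ideal.Quotient.mk I))
      (CommRingCat.ofHom (Ideal.Quotient.mk I')) (CommRingCat.ofHom jq) := by
    refine ⟨⟨hw⟩, ⟨PushoutCocone.IsColimit.mk hw
      (fun s => CommRingCat.ofHom (Ideal.Quotient.lift I' s.inl.hom fun x hx => ?_)) (fun s => ?_) (fun s => ?_)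
      fun s m hm _ => ?_⟩⟩
    · refine (h ▸ Ideal.map_le_iff_le_comap.mpr (fun y hy => ?_) : I' ≤ RingHom.ker s.inl.hom) hx
      rw [Ideal.mem_comap, RingHom.mem_ker]
      have := congr(($(s.condition)).hom y)
      simp only [CommRingCat.hom_comp, CommRingCat.hom_ofHom, RingHom.comp_apply] at this
      rw [this, Ideal.Quotient.eq_zero_iff_mem.mpr hy, map_zero]
    · ext x
      rfl
    · ext x
      exact congr(($(s.condition)).hom x)
    · ext x
      exact congr(($hm).hom x)
  exact isPullback_SpecMap_of_isPushout _ _ _ _ hpo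

end L02.CAlg.QFSlice
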