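import Groth.Agent.L02.CAlg.QFSlice.RegSeq
import Groth.Agent.L02.CAlg.QFSlice.Charts
import Mathlib.RingTheory.TensorProduct.MvPolynomial
import Mathlib.RingTheory.IsTensorProduct

/-!
Base change of a flat algebra over a polynomial ring keeps the variables weakly regular.
-/

set_option autoImplicit false
set_option linter.style.haveILetI false
universe u

open TensorProduct RingTheory.Sequence

namespace L02.CAlg.QFSlice

/-- After any base change the variables stay weakly regular. -/
theorem isWeaklyRegular_baseChange {R D : Type u} [CommRing R] [CommRing D] [Algebra R D] {c : ℕ}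
    [Algebra (MvPolynomial (Fin c) R) D] [IsScalarTower R (MvPolynomial (Fin c) R) D]
    [Module.Flat (MvPolynomial (Fin c) R) D] (A : Type u) [CommRing A] [Algebra R A] :
    IsWeaklyRegular (D ⊗[R] A) (List.ofFn fun i : Fin c =>
      algebraMap (MvPolynomial (Fin c) R) D (MvPolynomial.X i) ⊗ₜ[R] (1 : A)) := by
  classical
  let B := MvPolynomial (Fin c) R
  let B' := MvPolynomial (Fin c) A
  let D' := A ⊗[R] D
  letI : Algebra D D' := Algebra.TensorProduct.rightAlgebra
  letI : Algebra B B' := MvPolynomial.algebraMvPolynomial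
  letI : Algebra B' D' :=
    (MvPolynomial.aeval (R := A) fun i => (1 : A) ⊗ₜ[R] algebraMap B D (MvPolynomial.X i)).toRingHom.toAlgebra
  haveI : IsScalarTower A B' D' := IsScalarTower.of_algebraMap_eq fun a =>
    ((MvPolynomial.aeval (R := A) fun i => (1 : A) ⊗ₜ[R] algebraMap B D (MvPolynomial.X i)).commutes a).symm
  letI : Algebra B D' := ((algebraMap D D').comp (algebraMap B D)).toAlgebra
  haveI : IsScalarTower B D D' := IsScalarTower.of_algebraMap_eq' rfl
  haveI : IsScalarTower B B' D' := IsScalarTower.of_algebraMap_eq' (MvPolynomial.ringHom_ext (fun r => by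
      show (1 : A) ⊗ₜ[R] algebraMap B D (MvPolynomial.C r) =
        MvPolynomial.aeval (R := A) (fun i => (1 : A) ⊗ₜ[R] algebraMap B D (MvPolynomial.X i))
          (MvPolynomial.map (algebraMap R A) (MvPolynomial.C r))
      rw [MvPolynomial.map_C, MvPolynomial.aeval_C, ← MvPolynomial.algebraMap_eq, ← IsScalarTower.algebraMap_apply R B D,
        Algebra.TensorProduct.algebraMap_apply, Algebra.algebraMap_eq_smul_one, ← TensorProduct.smul_tmul,
        ← Algebra.algebraMap_eq_smul_one]
      rfl) (fun i => by
      show (1 : A) ⊗ₜ[R] algebraMap B D (MvPolynomial.X i) =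
        MvPolynomial.aeval (R := A) (fun i => (1 : A) ⊗ₜ[R] algebraMap B D (MvPolynomial.X i))
          (MvPolynomial.map (algebraMap R A) (MvPolynomial.X i))
      rw [MvPolynomial.map_X, MvPolynomial.aeval_X]))
  haveI : IsScalarTower R B D' := IsScalarTower.of_algebraMap_eq fun r => by
    rw [IsScalarTower.algebraMap_apply B D D', ← IsScalarTower.algebraMap_apply R B D,
      ← IsScalarTower.algebraMap_apply R D D']
  haveI : IsScalarTower R B' D' := IsScalarTower.of_algebraMap_eq fun r => by
    rw [IsScalarTower.algebraMap_apply R A B', ← IsScalarTower.algebraMap_apply A B' D',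
      ← IsScalarTower.algebraMap_apply R A D']
  haveI h1 : Algebra.IsPushout R B A B' := inferInstance
  haveI h2 : Algebra.IsPushout R D A D' := .symm inferInstance
  haveI : Algebra.IsPushout B D B' D' :=
    (Algebra.IsPushout.comp_iff (R := R) (S := B) (R' := A) (S' := B') (T := D) (T' := D')).mp h2
  haveI : Algebra.IsPushout B B' D D' := .symm inferInstance
  haveI : Module.Flat B' D' :=
    Module.Flat.isBaseChange (R := B) (S := B') (M := D) D'
      (f := (IsScalarTower.toAlgHom B D D').toLinearMap) (Algebra.IsPushout.out)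
  have h := isWeaklyRegular_of_flat_poly (A := A) (D := D') (c := c)
  have h' := isWeaklyRegular_map_equiv (Algebra.TensorProduct.comm R A D).toRingEquiv h
  rw [List.map_ofFn] at h'
  refine (congrArg (fun l => IsWeaklyRegular (D ⊗[R] A) l) (congrArg List.ofFn (funext fun i => ?_))).mpr h'
  show _ = Algebra.TensorProduct.comm R A D (algebraMap B' D' (MvPolynomial.X i))
  rw [show algebraMap B' D' (MvPolynomial.X i) = (1 : A) ⊗ₜ[R] algebraMap B D (MvPolynomial.X i) from
    MvPolynomial.aeval_X _ i, Algebra.TensorProduct.comm_tmul]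

/-- Transporting the flatness over the polynomial ring along an algebra isomorphism. -/
theorem flat_of_away {R D D₂ : Type u} [CommRing R] [CommRing D] [CommRing D₂] [Algebra R D] {c : ℕ}
    [Algebra (MvPolynomial (Fin c) R) D] [Algebra (MvPolynomial (Fin c) R) D₂] [Algebra D D₂]
    [IsScalarTower (MvPolynomial (Fin c) R) D D₂] (h : D) [IsLocalization.Away h D₂]
    [Module.Flat (MvPolynomial (Fin c) R) (Localization.Away h)] :
    Module.Flat (MvPolynomial (Fin c) R) D₂ :=
  Module.Flat.of_linearEquiv
    ((IsLocalization.algEquiv (Submonoid.powers h) (Localization.Away h) D₂).symm.toLinearEquiv.restrictScalars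
      (MvPolynomial (Fin c) R))

end L02.CAlg.QFSlice
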