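import Groth.Agent.S2106
import Groth.Agent.L20.FlatLocusOpen
import Mathlib.RingTheory.Localization.AtPrime.Basic
import Mathlib.RingTheory.Localization.BaseChange
import Mathlib.RingTheory.Localization.LocalizationLocalization
import Mathlib.RingTheory.FinitePresentation
import Mathlib.RingTheory.LocalRing.ResidueField.Fiber
import Mathlib.RingTheory.Flat.Localization

/-!
Flatness over a polynomial ring from flatness on the fibre, near a point.
-/

set_option autoImplicit false
universe u

open TensorProduct IsLocalization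
set_option linter.style.haveILetI false

namespace L02.CAlg.QFSlice

/-- If every element of `C` is a fraction of elements of `P`, flatness over `P` gives flatness over `C`. -/
theorem flat_of_fractions {P C : Type u} [CommRing P] [CommRing C] [Algebra P C]
    (h : ∀ c : C, ∃ u a : P, IsUnit (algebraMap P C u) ∧ c * algebraMap P C u = algebraMap P C a)
    (N : Type u) [AddCommGroup N] [Module C N] [Module P N] [IsScalarTower P C N] [Module.Flat P N] :
    Module.Flat C N := by
  refine Module.Flat.isBaseChange (R := P) (S := C) (M := N) N (f := LinearMap.id) ?_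
  refine IsBaseChange.of_lift_unique _ fun Q _ _ _ _ g =>
    ⟨{ toFun := g, map_add' := g.map_add, map_smul' := fun c n => ?_ }, LinearMap.ext fun n => rfl,
      fun g' hg' => LinearMap.ext fun n => LinearMap.congr_fun hg' n⟩
  obtain ⟨u, a, hu, hua⟩ := h c
  apply hu.smul_left_cancel.mp
  show algebraMap P C u • g (c • n) = algebraMap P C u • (c • g n)
  rw [algebraMap_smul, ← map_smul, ← algebraMap_smul C u (c • n), smul_smul, smul_smul, mul_comm _ c,
    hua, algebraMap_smul, algebraMap_smul, map_smul]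

theorem isEssFP_atPrime {R C : Type u} [CommRing R] [CommRing C] [Algebra R C]
    [Algebra.FinitePresentation R C] (p : Ideal R) [p.IsPrime] (Q : Ideal C) [Q.IsPrime] [Q.LiesOver p]
    [Algebra (Localization.AtPrime p) (Localization.AtPrime Q)]
    [Localization.AtPrime.IsLiesOverAlgebra p Q] :
    CAlgX.IsEssFinitePresentation (Localization.AtPrime p) (Localization.AtPrime Q) := by
  let M := Algebra.algebraMapSubmonoid C p.primeCompl
  let C' := Localization M
  have hle : M ≤ Q.primeCompl := by
    rintro _ ⟨x, hx, rfl⟩ hxQ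
    exact hx ((Q.over_def p).symm ▸ hxQ)
  letI : Algebra (Localization.AtPrime p) C' := localizationAlgebra p.primeCompl C
  haveI : IsScalarTower R (Localization.AtPrime p) C' :=
    IsScalarTower.of_algebraMap_eq fun x => by
      rw [IsScalarTower.algebraMap_apply R C C']
      exact (IsLocalization.map_eq _ x).symm
  haveI : Algebra.IsPushout R (Localization.AtPrime p) C C' :=
    (Algebra.isPushout_of_isLocalization (S := p.primeCompl) (A := Localization.AtPrime p) (T := C) (B := C')).symm
  haveI : Algebra.FinitePresentation (Localization.AtPrime p) C' :=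
    Algebra.FinitePresentation.equiv (Algebra.IsPushout.equiv R (Localization.AtPrime p) C C')
  letI : Algebra C' (Localization.AtPrime Q) := localizationAlgebraOfSubmonoidLe C' _ M Q.primeCompl hle
  haveI : IsScalarTower C C' (Localization.AtPrime Q) :=
    localization_isScalarTower_of_submonoid_le C' _ M Q.primeCompl hle
  haveI : IsScalarTower R C' (Localization.AtPrime Q) := IsScalarTower.of_algebraMap_eq fun x => by
    rw [IsScalarTower.algebraMap_apply R C C', ← IsScalarTower.algebraMap_apply C C' (Localization.AtPrime Q),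
      ← IsScalarTower.algebraMap_apply R C (Localization.AtPrime Q)]
  haveI : IsScalarTower (Localization.AtPrime p) C' (Localization.AtPrime Q) :=
    IsScalarTower.of_algebraMap_eq' (IsLocalization.ringHom_ext p.primeCompl (RingHom.ext fun x => by
      simp only [RingHom.comp_apply, ← IsScalarTower.algebraMap_apply]))
  exact ⟨C', _, _, _, inferInstance, Q.primeCompl.map (algebraMap C C'), inferInstance,
    IsLocalization.isLocalization_of_submonoid_le _ _ M Q.primeCompl hle⟩

theorem exists_residueField_hom {R C : Type u} [CommRing R] [CommRing C] [Algebra R C] (p : Ideal R)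
    [p.IsPrime] (h₁ : ∀ r ∈ p, algebraMap R C r = 0) (h₂ : ∀ r ∉ p, IsUnit (algebraMap R C r)) :
    Nonempty (p.ResidueField →ₐ[R] C) :=
  ⟨Ideal.ResidueField.liftₐ p (Algebra.ofId R C) h₁ h₂⟩

/-- The fibre computation, with the local rings of the fibres given abstractly. -/
theorem flat_fibre_aux {R S L C N : Type u} [CommRing R] [CommRing S] [Algebra R S] {d : ℕ}
    [Algebra (MvPolynomial (Fin d) R) S] [IsScalarTower R (MvPolynomial (Fin d) R) S]
    [CommRing C] [Algebra R C] [Algebra (MvPolynomial (Fin d) R) C]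
    [IsScalarTower R (MvPolynomial (Fin d) R) C]
    [CommRing N] [Algebra R N] [Algebra C N] [IsScalarTower R C N] [Algebra S N] [IsScalarTower R S N]
    (hBN : ∀ b : MvPolynomial (Fin d) R,
      algebraMap C N (algebraMap _ C b) = algebraMap S N (algebraMap _ S b))
    (p : Ideal R) [p.IsPrime] (hC₀ : ∀ r ∈ p, algebraMap R C r = 0) (hC₁ : ∀ r ∉ p, IsUnit (algebraMap R C r))
    (hCfrac : ∀ c : C, ∃ u a : MvPolynomial (Fin d) R, IsUnit (algebraMap _ C u) ∧
      c * algebraMap _ C u = algebraMap _ C a)
    [Field L] (ψ : p.Fiber S →+* L) (g : p.Fiber S) (hψ : ψ g ≠ 0)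
    (hNu : ∀ s : S, ψ (1 ⊗ₜ s) ≠ 0 → IsUnit (algebraMap S N s))
    (hNs : ∀ n : N, ∃ u a : S, ψ (1 ⊗ₜ u) ≠ 0 ∧ n * algebraMap S N u = algebraMap S N a)
    (hNk : ∀ s : S, algebraMap S N s = 0 → ∃ u : S, ψ (1 ⊗ₜ u) ≠ 0 ∧ u * s ∈ p.map (algebraMap R S))
    (hg : ((algebraMap (p.Fiber S) (Localization.Away g)).comp
      (MvPolynomial.aeval (R := p.ResidueField)
        (fun i => (1 : p.ResidueField) ⊗ₜ[R] algebraMap (MvPolynomial (Fin d) R) S (MvPolynomial.X i))).toRingHom).Flat) :
    Module.Flat C N := by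
  classical
  let B := MvPolynomial (Fin d) R
  let k := p.ResidueField
  let T := p.Fiber S
  let ρ : S →+* T := (Algebra.TensorProduct.includeRight : S →ₐ[R] T).toRingHom
  let q : Ideal S := RingHom.ker (ψ.comp ρ)
  haveI : q.IsPrime := RingHom.ker_isPrime _
  have hpk : ∀ r : R, algebraMap R T r = algebraMap k T (algebraMap R k r) := IsScalarTower.algebraMap_apply R k T
  obtain ⟨fk⟩ := exists_residueField_hom (C := C) p hC₀ hC₁
  let P := MvPolynomial (Fin d) k
  letI : Algebra P C := (MvPolynomial.eval₂Hom fk.toRingHom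
    fun i => algebraMap B C (MvPolynomial.X i)).toAlgebra
  let gk : k →ₐ[R] N := (IsScalarTower.toAlgHom R C N).comp fk
  let χ : T →ₐ[R] N := Algebra.TensorProduct.lift gk (IsScalarTower.toAlgHom R S N) fun _ _ => Commute.all _ _
  have hχ : ∀ c s, χ (c ⊗ₜ s) = gk c * algebraMap S N s := fun c s => Algebra.TensorProduct.lift_tmul _ _ _ c s
  have hχρ : ∀ s, χ (ρ s) = algebraMap S N s := fun s => by
    show χ (1 ⊗ₜ s) = _
    rw [hχ, map_one, one_mul]
  letI : Algebra T N := χ.toRingHom.toAlgebra
  have hunit : ∀ s ∉ q, IsUnit (algebraMap S N s) := fun s hs => hNu s fun h => hs (RingHom.mem_ker.mpr h)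
  -- `N` is a localisation of the fibre
  let U := q.primeCompl.map ρ
  haveI hU : IsLocalization U N := by
    refine ⟨⟨?_, fun n => ?_, fun {x y} hxy => ?_⟩⟩
    · rintro ⟨_, s, hs, rfl⟩
      show IsUnit (χ (ρ s))
      rw [hχρ]; exact hunit s hs
    · obtain ⟨u, a, hu, hau⟩ := hNs n
      refine ⟨⟨ρ a, ⟨ρ u, u, fun h => hu (RingHom.mem_ker.mp h), rfl⟩⟩, ?_⟩
      show _ * χ (ρ u) = χ (ρ a)
      rw [hχρ, hχρ, hau]
    · obtain ⟨c, hc, s, hs⟩ := Ideal.Fiber.exists_smul_eq_one_tmul _ (x - y)
      have h0 : algebraMap S N s = 0 := by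
        rw [← hχρ]
        show χ (1 ⊗ₜ s) = 0
        rw [← hs, map_smul]
        show c • χ (x - y) = 0
        rw [map_sub, show χ x = χ y from hxy, sub_self, smul_zero]
      obtain ⟨u, hu', hus⟩ := hNk s h0
      have hu : u ∉ q := fun h => hu' (RingHom.mem_ker.mp h)
      refine ⟨⟨ρ u, u, hu, rfl⟩, ?_⟩
      have hz : ρ (u * s) = 0 := by
        have hle : p.map (algebraMap R S) ≤ RingHom.ker ρ := Ideal.map_le_iff_le_comap.mpr fun r hr => by
          rw [Ideal.mem_comap, RingHom.mem_ker]
          show (Algebra.TensorProduct.includeRight : S →ₐ[R] T) (algebraMap R S r) = 0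
          rw [AlgHom.commutes, hpk, Ideal.algebraMap_residueField_eq_zero.mpr hr, map_zero]
        exact hle hus
      rw [map_mul] at hz
      have hz' : c • (ρ u * (x - y)) = 0 := by
        rw [← mul_smul_comm, hs]; exact hz
      have hcu : IsUnit (algebraMap R T c) := by
        rw [hpk]
        exact (isUnit_iff_ne_zero.mpr fun h => hc (Ideal.algebraMap_residueField_eq_zero.mp h)).map _
      rw [Algebra.smul_def] at hz'
      exact sub_eq_zero.mp ((mul_sub _ _ _).symm.trans (hcu.mul_right_eq_zero.mp hz'))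
  have hgu : IsUnit (algebraMap T N g) := by
    obtain ⟨c, hc, s, hs⟩ := Ideal.Fiber.exists_smul_eq_one_tmul _ g
    have hsq : s ∉ q := fun h => by
      rw [RingHom.mem_ker, RingHom.comp_apply, show ρ s = 1 ⊗ₜ s from rfl, ← hs, Algebra.smul_def, map_mul, hpk] at h
      refine hψ ((mul_eq_zero.mp h).resolve_left ?_)
      show (ψ.comp (algebraMap k T)) _ ≠ 0
      rw [map_ne_zero]
      exact fun h => hc (Ideal.algebraMap_residueField_eq_zero.mp h)
    have := hunit s hsq
    rw [← hχρ, show ρ s = 1 ⊗ₜ s from rfl, ← hs, map_smul] at this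
    change IsUnit (c • χ g) at this
    replace this : IsUnit (algebraMap R N c * χ g) := (Algebra.smul_def c (χ g)) ▸ this
    exact isUnit_of_mul_isUnit_right this
  let U₂ := U ⊔ Submonoid.powers g
  haveI : IsLocalization U₂ N := IsLocalization.of_le U U₂ le_sup_left fun r hr => by
    have hle : U₂ ≤ (IsUnit.submonoid N).comap (algebraMap T N) :=
      sup_le (fun x hx => IsLocalization.map_units N (⟨x, hx⟩ : U)) (Submonoid.powers_le.mpr hgu)
    exact hle hr
  let Tg := Localization.Away g
  letI : Algebra Tg N := localizationAlgebraOfSubmonoidLe Tg N (Submonoid.powers g) U₂ le_sup_right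
  haveI : IsScalarTower T Tg N :=
    localization_isScalarTower_of_submonoid_le Tg N (Submonoid.powers g) U₂ le_sup_right
  haveI := IsLocalization.isLocalization_of_submonoid_le Tg N (Submonoid.powers g) U₂ le_sup_right
  haveI : Module.Flat Tg N := IsLocalization.flat N (U₂.map (algebraMap T Tg))
  letI : Algebra P Tg := ((algebraMap T Tg).comp
      (MvPolynomial.aeval (R := k) (fun i => (1 : k) ⊗ₜ[R] algebraMap B S (MvPolynomial.X i))).toRingHom).toAlgebra
  haveI : Module.Flat P Tg := hg
  letI : Algebra P N := Algebra.compHom N (algebraMap P C)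
  haveI : IsScalarTower P C N := IsScalarTower.of_algebraMap_eq' rfl
  haveI : IsScalarTower P Tg N := IsScalarTower.of_algebraMap_eq' (MvPolynomial.ringHom_ext (fun c => by
      show algebraMap C N (MvPolynomial.eval₂Hom fk.toRingHom (fun i => algebraMap B C (MvPolynomial.X i)) (MvPolynomial.C c)) =
        algebraMap Tg N (algebraMap T Tg (MvPolynomial.aeval (R := k)
          (fun i => (1 : k) ⊗ₜ[R] algebraMap B S (MvPolynomial.X i)) (MvPolynomial.C c)))
      rw [MvPolynomial.eval₂Hom_C, MvPolynomial.aeval_C, ← IsScalarTower.algebraMap_apply T Tg N]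
      show _ = χ (c ⊗ₜ 1)
      rw [hχ, map_one, mul_one]
      rfl) (fun i => by
      show algebraMap C N (MvPolynomial.eval₂Hom fk.toRingHom (fun i => algebraMap B C (MvPolynomial.X i)) (MvPolynomial.X i)) =
        algebraMap Tg N (algebraMap T Tg (MvPolynomial.aeval (R := k)
          (fun i => (1 : k) ⊗ₜ[R] algebraMap B S (MvPolynomial.X i)) (MvPolynomial.X i)))
      rw [MvPolynomial.eval₂Hom_X', MvPolynomial.aeval_X, ← IsScalarTower.algebraMap_apply T Tg N]
      show _ = χ (1 ⊗ₜ _)
      rw [hχ, map_one, one_mul]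
      exact hBN _))
  haveI : Module.Flat P N := Module.Flat.trans P Tg N
  have hfrac : ∀ c : C, ∃ u a : P, IsUnit (algebraMap P C u) ∧ c * algebraMap P C u = algebraMap P C a := by
    have hBP : ∀ b : B, algebraMap P C (MvPolynomial.map (algebraMap R k) b) = algebraMap B C b := by
      intro b
      refine RingHom.congr_fun (show (algebraMap P C).comp (MvPolynomial.map (algebraMap R k)) = algebraMap B C from
        MvPolynomial.ringHom_ext (fun r => ?_) fun i => ?_) b
      · show MvPolynomial.eval₂Hom fk.toRingHom (fun i => algebraMap B C (MvPolynomial.X i))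
          (MvPolynomial.map (algebraMap R k) (MvPolynomial.C r)) = _
        rw [MvPolynomial.map_C, MvPolynomial.eval₂Hom_C]
        exact (fk.commutes r).trans (IsScalarTower.algebraMap_apply R B C r)
      · show MvPolynomial.eval₂Hom fk.toRingHom (fun i => algebraMap B C (MvPolynomial.X i))
          (MvPolynomial.map (algebraMap R k) (MvPolynomial.X i)) = _
        rw [MvPolynomial.map_X, MvPolynomial.eval₂Hom_X']
    intro c
    obtain ⟨u, a, hu, hua⟩ := hCfrac c
    exact ⟨MvPolynomial.map (algebraMap R k) u, MvPolynomial.map (algebraMap R k) a,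
      by rw [hBP]; exact hu, by rw [hBP, hBP]; exact hua⟩
  exact flat_of_fractions hfrac N

/-- If a fibre of a flat `R`-algebra `S` is flat over the fibre of a polynomial ring off the zeros of `g`,
then `S` is flat over the polynomial ring near any point of that open set of the fibre. -/
theorem exists_flat_away_of_fibre {R S L : Type u} [CommRing R] [CommRing S] [Algebra R S]
    [Algebra.FinitePresentation R S] [Module.Flat R S] {d : ℕ}
    [Algebra (MvPolynomial (Fin d) R) S] [IsScalarTower R (MvPolynomial (Fin d) R) S]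
    (p : Ideal R) [p.IsPrime] (g : p.Fiber S) [Field L] (ψ : p.Fiber S →+* L) (hψ : ψ g ≠ 0)
    (hg : ((algebraMap (p.Fiber S) (Localization.Away g)).comp
      (MvPolynomial.aeval (R := p.ResidueField)
        (fun i => (1 : p.ResidueField) ⊗ₜ[R] algebraMap (MvPolynomial (Fin d) R) S (MvPolynomial.X i))).toRingHom).Flat) :
    ∃ h : S, ψ (1 ⊗ₜ h) ≠ 0 ∧ Module.Flat (MvPolynomial (Fin d) R) (Localization.Away h) := by
  classical
  let B := MvPolynomial (Fin d) R
  let k := p.ResidueField
  let T := p.Fiber S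
  let ρ : S →+* T := (Algebra.TensorProduct.includeRight : S →ₐ[R] T).toRingHom
  let q : Ideal S := RingHom.ker (ψ.comp ρ)
  haveI : q.IsPrime := RingHom.ker_isPrime _
  have hpk : ∀ r : R, algebraMap R T r = algebraMap k T (algebraMap R k r) := IsScalarTower.algebraMap_apply R k T
  haveI hqp : q.LiesOver p := ⟨by
    ext r
    rw [Ideal.under_def, Ideal.mem_comap, RingHom.mem_ker, RingHom.comp_apply]
    show _ ↔ ψ ((Algebra.TensorProduct.includeRight : S →ₐ[R] T) (algebraMap R S r)) = 0
    rw [AlgHom.commutes, hpk, ← Ideal.algebraMap_residueField_eq_zero (I := p)]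
    exact (map_eq_zero (ψ.comp (algebraMap k T))).symm⟩
  let Q : Ideal B := q.under B
  haveI : q.LiesOver Q := ⟨rfl⟩
  haveI : Q.LiesOver p := ⟨by rw [Ideal.under_under]; exact q.over_def p⟩
  let Rp := Localization.AtPrime p
  let Bq := Localization.AtPrime Q
  let Sq := Localization.AtPrime q
  letI := Localization.AtPrime.algebraOfLiesOver p Q
  letI := Localization.AtPrime.algebraOfLiesOver p q
  letI := Localization.AtPrime.algebraOfLiesOver Q q
  haveI : IsLocalHom (algebraMap Rp Bq) := Localization.isLocalHom_localRingHom _ _ _ _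
  haveI : IsLocalHom (algebraMap Bq Sq) := Localization.isLocalHom_localRingHom _ _ _ _
  haveI : Module.Flat R Sq := Module.Flat.trans R S Sq
  haveI : Module.Flat Rp Sq := (Module.flat_iff_of_isLocalization Rp p.primeCompl Sq).mpr inferInstance
  let m := IsLocalRing.maximalIdeal Rp
  let I := m.map (algebraMap Rp Bq)
  let J := I.map (algebraMap Bq Sq)
  have hmp : m = p.map (algebraMap R Rp) := (Localization.AtPrime.map_eq_maximalIdeal).symm
  have hJ : J = (p.map (algebraMap R S)).map (algebraMap S Sq) := by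
    rw [Ideal.map_map, ← IsScalarTower.algebraMap_eq, show J = (m.map (algebraMap Rp Bq)).map (algebraMap Bq Sq) from rfl,
      Ideal.map_map, ← IsScalarTower.algebraMap_eq, hmp, Ideal.map_map, ← IsScalarTower.algebraMap_eq]
  -- the residue field acts on `(Bq ⧸ I)` and on `(Sq ⧸ J)`
  have hC₀ : ∀ r ∈ p, algebraMap R (Bq ⧸ I) r = 0 := fun r hr => by
    rw [IsScalarTower.algebraMap_apply R Bq (Bq ⧸ I), Ideal.Quotient.algebraMap_eq,
      Ideal.Quotient.eq_zero_iff_mem, IsScalarTower.algebraMap_apply R Rp Bq]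
    exact Ideal.mem_map_of_mem _ (hmp ▸ Ideal.mem_map_of_mem _ hr)
  have hC₁ : ∀ r ∉ p, IsUnit (algebraMap R (Bq ⧸ I) r) := fun r hr => by
    rw [IsScalarTower.algebraMap_apply R Bq (Bq ⧸ I), IsScalarTower.algebraMap_apply R Rp Bq]
    exact ((IsLocalization.map_units Rp (⟨r, hr⟩ : p.primeCompl)).map (algebraMap Rp Bq)).map
      (algebraMap Bq (Bq ⧸ I))
  letI algCN : Algebra (Bq ⧸ I) (Sq ⧸ J) := (Ideal.quotientMap J (algebraMap Bq Sq) Ideal.le_comap_map).toAlgebra
  have hquot : ∀ (c : Bq) (n : Sq), (Ideal.Quotient.mk I c) • (Ideal.Quotient.mk J n) = Ideal.Quotient.mk J (c • n) :=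
    fun c n => by rw [Algebra.smul_def c n, map_mul]; rfl
  have hflat : Module.Flat (Bq ⧸ I) (Sq ⧸ J) := by
    refine @flat_fibre_aux R S L (Bq ⧸ I) (Sq ⧸ J) _ _ _ d _ _ _ _ _ _ _ _ algCN ?_ _ _ ?_ p _ hC₀ hC₁ ?_ _ ψ g hψ ?_ ?_ ?_ hg
    · refine @IsScalarTower.of_algebraMap_eq R (Bq ⧸ I) (Sq ⧸ J) _ _ _ _ algCN _ fun r => ?_
      exact ((IsScalarTower.algebraMap_apply R Bq (Sq ⧸ J) r).trans rfl)
    · intro b
      exact (congrArg (Ideal.Quotient.mk J) (IsScalarTower.algebraMap_apply B Bq Sq b)).symm.trans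
        (congrArg (Ideal.Quotient.mk J) (IsScalarTower.algebraMap_apply B S Sq b))
    · intro c
      obtain ⟨c, rfl⟩ := Ideal.Quotient.mk_surjective c
      obtain ⟨⟨a, u⟩, hau⟩ := IsLocalization.surj Q.primeCompl c
      refine ⟨u, a, (IsLocalization.map_units Bq u).map (Ideal.Quotient.mk I), ?_⟩
      show Ideal.Quotient.mk I c * Ideal.Quotient.mk I (algebraMap B Bq u) = Ideal.Quotient.mk I (algebraMap B Bq a)
      rw [← map_mul, hau]
    · intro s hs
      exact (IsLocalization.map_units Sq (⟨s, fun h => hs (RingHom.mem_ker.mp h)⟩ : q.primeCompl)).map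
        (Ideal.Quotient.mk J)
    · intro n
      obtain ⟨n, rfl⟩ := Ideal.Quotient.mk_surjective n
      obtain ⟨⟨a, u⟩, hau⟩ := IsLocalization.surj q.primeCompl n
      refine ⟨u, a, fun h => u.2 (RingHom.mem_ker.mpr h), ?_⟩
      show Ideal.Quotient.mk J n * Ideal.Quotient.mk J (algebraMap S Sq u) = Ideal.Quotient.mk J (algebraMap S Sq a)
      rw [← map_mul, hau]
    · intro s hs
      have hs' : algebraMap S Sq s ∈ J := Ideal.Quotient.eq_zero_iff_mem.mp hs
      rw [hJ, IsLocalization.algebraMap_mem_map_algebraMap_iff q.primeCompl] at hs'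
      obtain ⟨u, hu, hus⟩ := hs'
      exact ⟨u, fun h => hu (RingHom.mem_ker.mpr h), hus⟩
  letI modCN : Module (Bq ⧸ I) (Sq ⧸ J) := @Algebra.toModule _ _ _ _ algCN
  have hfib : Module.Flat (Bq ⧸ I) (Sq ⧸ I • (⊤ : Submodule Bq Sq)) := by
    let e₀ := (Submodule.quotEquivOfEq (I • (⊤ : Submodule Bq Sq)) (J.restrictScalars Bq) (Ideal.smul_top_eq_map I)).trans
      (Submodule.Quotient.restrictScalarsEquiv Bq J)
    let e : (Sq ⧸ I • (⊤ : Submodule Bq Sq)) ≃ₗ[Bq ⧸ I] (Sq ⧸ J) :=
      { e₀ with
        map_smul' := fun c x => by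
          obtain ⟨c, rfl⟩ := Ideal.Quotient.mk_surjective c
          obtain ⟨n, rfl⟩ := Submodule.Quotient.mk_surjective _ x
          show Ideal.Quotient.mk J (c • n) = (Ideal.Quotient.mk I c) • Ideal.Quotient.mk J n
          rw [hquot] }
    exact Module.Flat.of_linearEquiv e
  have h2106 := Groth.Agent.S2106.result (R := Rp) (S := Bq) (S' := Sq) (M := Sq)
    (isEssFP_atPrime p Q) (isEssFP_atPrime p q) hfib
  haveI := h2106.2
  haveI : Module.Flat B Sq := Module.Flat.trans B Bq Sq
  haveI : Algebra.FinitePresentation B S := Algebra.FinitePresentation.of_restrict_scalars_finitePresentation R B S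
  haveI : Module.Flat B (LocalizedModule q.primeCompl S) :=
    Module.Flat.of_linearEquiv
      ((IsLocalizedModule.iso q.primeCompl (Algebra.linearMap S Sq)).restrictScalars B)
  obtain ⟨h, hh, hflat⟩ := Groth.L20.exists_flat_away (R := B) (S := S) (M := S) q.primeCompl
  exact ⟨h, fun h0 => hh (RingHom.mem_ker.mpr h0), Module.Flat.of_linearEquiv
    ((IsLocalizedModule.iso (Submonoid.powers h) (Algebra.linearMap S (Localization.Away h))).symm.restrictScalars B)⟩

end L02.CAlg.QFSlice
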