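import Groth.Agent.L02.CAlg.QFSlice.Scheme
import Groth.Agent.L07.CIScheme
import Groth.Agent.L04.CMBasic
import Groth.Prelude.Def_CAlg

/-!
Regular sequences in the local ring of a fibre, seen in the local ring of the total space.
-/

set_option autoImplicit false
set_option linter.style.haveILetI false
universe u

open AlgebraicGeometry CategoryTheory Limits RingTheory.Sequence

namespace L02.CAlg.QFSlice

theorem exists_weaklyRegular_length {R : Type u} [CommRing R] [IsLocalRing R] (n : ℕ)
    (h : (n : ℕ∞) ≤ LocCoh.depth R R) :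
    ∃ rs : List R, n ≤ rs.length ∧ IsWeaklyRegular R rs ∧ ∀ r ∈ rs, r ∈ IsLocalRing.maximalIdeal R := by
  rcases Nat.eq_zero_or_pos n with rfl | hn
  · exact ⟨[], le_rfl, IsWeaklyRegular.nil _ _, by simp⟩
  by_contra H
  push Not at H
  have hne : IsLocalRing.maximalIdeal R • (⊤ : Submodule R R) ≠ ⊤ := by
    rw [smul_eq_mul, Ideal.mul_top]
    exact (IsLocalRing.maximalIdeal.isMaximal R).ne_top
  have hle : LocCoh.depth R R ≤ ((n - 1 : ℕ) : ℕ∞) := by
    rw [LocCoh.depth, LocCoh.idealDepth, if_neg hne]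
    refine iSup₂_le fun rs hrs => ?_
    rw [Nat.cast_le]
    by_contra hlt
    obtain ⟨r, hr, hr'⟩ := H rs (by omega) hrs.1
    exact hr' (hrs.2 r hr)
  have := h.trans hle
  rw [Nat.cast_le] at this
  omega

/-- Regular sequences of the fibre stalk lift to the stalk of the source. -/
theorem exists_fibre_regular {X S : Scheme.{u}} (f : X ⟶ S) (x : X) (n : ℕ)
    (h : (n : ℕ∞) ≤ LocCoh.depth ((f.fiber (f x)).presheaf.stalk (f.asFiber x))
      ((f.fiber (f x)).presheaf.stalk (f.asFiber x))) :
    ∃ (e : (X.presheaf.stalk x ⧸ Ideal.map (f.stalkMap x).hom (IsLocalRing.maximalIdeal (S.presheaf.stalk (f x)))) ≃+*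
        (f.fiber (f x)).presheaf.stalk (f.asFiber x)) (hs : List (X.presheaf.stalk x)),
      n ≤ hs.length ∧ (∀ a ∈ hs, a ∈ IsLocalRing.maximalIdeal (X.presheaf.stalk x)) ∧
      IsWeaklyRegular
        (X.presheaf.stalk x ⧸ Ideal.map (f.stalkMap x).hom (IsLocalRing.maximalIdeal (S.presheaf.stalk (f x))))
        (hs.map (Ideal.Quotient.mk (Ideal.map (f.stalkMap x).hom (IsLocalRing.maximalIdeal (S.presheaf.stalk (f x)))))) ∧
      IsWeaklyRegular ((f.fiber (f x)).presheaf.stalk (f.asFiber x))
        (hs.map (fun a => e (Ideal.Quotient.mk _ a))) := by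
  obtain ⟨e₀⟩ := Groth.L07.CIScheme.exists_fiberStalkEquiv f (f x) (f.asFiber x) x (f.fiberι_asFiber x)
  let J := Ideal.map (f.stalkMap x).hom (IsLocalRing.maximalIdeal (S.presheaf.stalk (f x)))
  let e : (X.presheaf.stalk x ⧸ J) ≃+* (f.fiber (f x)).presheaf.stalk (f.asFiber x) := e₀
  obtain ⟨rs, hlen, hreg, hmax⟩ := exists_weaklyRegular_length n h
  choose lift hlift using fun r : (f.fiber (f x)).presheaf.stalk (f.asFiber x) =>
    Ideal.Quotient.mk_surjective (I := J) (e.symm r)
  have hmap : (rs.map lift).map (Ideal.Quotient.mk J) = rs.map e.symm := by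
    rw [List.map_map]
    exact List.map_congr_left fun r _ => hlift r
  have hmap' : (rs.map lift).map (fun a => e (Ideal.Quotient.mk J a)) = rs := by
    rw [List.map_map]
    conv_rhs => rw [← List.map_id rs]
    exact List.map_congr_left fun r _ => by
      show e (Ideal.Quotient.mk J (lift r)) = r
      rw [hlift, e.apply_symm_apply]
  refine ⟨e, rs.map lift, by simpa using hlen, fun a ha => ?_, ?_, ?_⟩
  · obtain ⟨r, hr, rfl⟩ := List.mem_map.mp ha
    rw [IsLocalRing.mem_maximalIdeal]
    intro hu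
    have hu' : IsUnit (e.symm r) := hlift r ▸ hu.map (Ideal.Quotient.mk J)
    have := hu'.map e
    rw [e.apply_symm_apply] at this
    exact (IsLocalRing.mem_maximalIdeal _).mp (hmax r hr) this
  · rw [hmap]
    exact isWeaklyRegular_map_equiv e.symm hreg
  · rw [hmap']
    exact hreg

end L02.CAlg.QFSlice
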