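import Groth.Agent.L02.CAlg.QFSlice.FibreStalk
import Mathlib.AlgebraicGeometry.Morphisms.QuasiFinite
import Mathlib.RingTheory.ZariskisMainTheorem
import Mathlib.RingTheory.Spectrum.Prime.Jacobson
import Mathlib.RingTheory.KrullDimension.Module
import Mathlib.RingTheory.KrullDimension.Regular
import Groth.Prelude.Def_MoreMor

/-!
A closed point of a fibre at which the morphism is Cohen–Macaulay lies on a quasi-finite flat slice.
-/

set_option autoImplicit false
set_option linter.style.haveILetI false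
universe u

open AlgebraicGeometry CategoryTheory Limits RingTheory.Sequence TensorProduct

namespace L02.CAlg.QFSlice

/-- A prime that is maximal and minimal among the primes above `p` is quasi-finite. -/
theorem quasiFiniteAt_of_isolated {R T : Type u} [CommRing R] [CommRing T] [Algebra R T] [Algebra.FiniteType R T]
    (p : Ideal R) [p.IsPrime] (q : Ideal T) [hq : q.IsPrime] [hqp : q.LiesOver p]
    (hiso : ∀ q' : Ideal T, q'.IsPrime → q'.LiesOver p → (q' ≤ q ∨ q ≤ q') → q' = q) :
    Algebra.QuasiFiniteAt R q := by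
  let e := PrimeSpectrum.primesOverOrderIsoFiber R T p
  let P := e ⟨q, hq, hqp⟩
  haveI : IsNoetherianRing (p.Fiber T) := Algebra.FiniteType.isNoetherianRing p.ResidueField _
  haveI : IsJacobsonRing (p.Fiber T) := isJacobsonRing_of_finiteType (A := p.ResidueField)
  have hopen : IsOpen ({P} : Set (PrimeSpectrum (p.Fiber T))) := by
    have key : ∀ P' : PrimeSpectrum (p.Fiber T), P' ≤ P ∨ P ≤ P' → P' = P := fun P' hP' => by
      have hle : (e.symm P').1 ≤ q ∨ q ≤ (e.symm P').1 := by
        rcases hP' with h | h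
        · exact Or.inl (show (e.symm P') ≤ (⟨q, hq, hqp⟩ : p.primesOver T) from by
            rw [← e.symm_apply_apply ⟨q, hq, hqp⟩]; exact e.symm.monotone h)
        · exact Or.inr (show (⟨q, hq, hqp⟩ : p.primesOver T) ≤ e.symm P' from by
            rw [← e.symm_apply_apply ⟨q, hq, hqp⟩]; exact e.symm.monotone h)
      have := hiso _ (e.symm P').2.1 (e.symm P').2.2 hle
      rw [← e.apply_symm_apply P']
      exact congrArg e (Subtype.ext this)
    refine ((PrimeSpectrum.isOpen_singleton_tfae_of_isNoetherian_of_isJacobsonRing P).out 0 2 rfl rfl).mpr ⟨?_, ?_⟩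
    · rw [← closure_subset_iff_isClosed]
      intro P' hP'
      exact key P' (Or.inr ((PrimeSpectrum.le_iff_mem_closure P P').mpr hP'))
    · intro P₁ P₂ h h₁
      rw [Set.mem_singleton_iff] at h₁ ⊢
      subst h₁
      exact key P₂ (Or.inl ((PrimeSpectrum.le_iff_specializes P₂ P).mpr h))
  haveI : Algebra.QuasiFiniteAt p.ResidueField P.asIdeal := Algebra.QuasiFiniteAt.of_isOpen_singleton P hopen
  exact Algebra.QuasiFiniteAt.of_quasiFiniteAt_residueField p q P.asIdeal
    (congrArg Subtype.val (e.symm_apply_apply (⟨q, hq, hqp⟩ : p.primesOver T)))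

/-- Over a zero-dimensional quotient, a prime containing the ideal is maximal. -/
theorem eq_maximalIdeal_of_dim_zero {F : Type u} [CommRing F] [IsLocalRing F] (I : Ideal F)
    (hI : ringKrullDim (F ⧸ I) = 0) (P : Ideal F) [P.IsPrime] (hP : I ≤ P) :
    P = IsLocalRing.maximalIdeal F := by
  haveI : Ring.KrullDimLE 0 (F ⧸ I) := Ring.krullDimLE_iff.mpr (by simp [hI])
  haveI : (P.map (Ideal.Quotient.mk I)).IsPrime :=
    Ideal.map_isPrime_of_surjective Ideal.Quotient.mk_surjective (by rwa [Ideal.mk_ker])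
  have hmax : (P.map (Ideal.Quotient.mk I)).IsMaximal := Ideal.IsPrime.isMaximal' inferInstance
  have := Ideal.comap_isMaximal_of_surjective (Ideal.Quotient.mk I) Ideal.Quotient.mk_surjective
    (K := P.map (Ideal.Quotient.mk I))
  rw [Ideal.comap_map_of_surjective _ Ideal.Quotient.mk_surjective, ← RingHom.ker_eq_comap_bot, Ideal.mk_ker,
    sup_eq_left.mpr hP] at this
  exact IsLocalRing.eq_maximalIdeal this

theorem apply_fromSpec {X S : Scheme.{u}} (f : X ⟶ S) {V : S.Opens} (hV : IsAffineOpen V) {U : X.Opens}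
    (hU : IsAffineOpen U) (hUV : U ≤ f ⁻¹ᵁ V) (P : PrimeSpectrum Γ(X, U)) :
    f (hU.fromSpec P) = hV.fromSpec (PrimeSpectrum.comap (f.appLE V U hUV).hom P) := by
  show (hU.fromSpec ≫ f) P = _
  rw [← IsAffineOpen.SpecMap_appLE_fromSpec f hV hU hUV]
  rfl

/-- A regular sequence of maximal length at a closed point of Cohen–Macaulay type: the source is flat over
affine space near the point and the point is isolated in its slice of the fibre. -/
theorem exists_slice_isolated {X S : Scheme.{u}} (f : X ⟶ S) [LocallyOfFinitePresentation f] (x : X)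
    (hcm : MoreMor.IsCMAt f x) (hcl : IsClosed ({f.asFiber x} : Set ↑(f.fiber (f x)))) :
    ∃ (c : ℕ) (V : S.Opens) (_ : IsAffineOpen V) (U : X.Opens) (hU : IsAffineOpen U) (hUV : U ≤ f ⁻¹ᵁ V)
      (hx : x ∈ U) (t : Fin c → Γ(X, U)),
      (∀ i, X.presheaf.germ U x hx (t i) ∈ IsLocalRing.maximalIdeal (X.presheaf.stalk x)) ∧
      (∀ P : PrimeSpectrum Γ(X, U), P.asIdeal.comap (f.appLE V U hUV).hom =
        (hU.primeIdealOf ⟨x, hx⟩).asIdeal.comap (f.appLE V U hUV).hom ↔ f (hU.fromSpec P) = f x) ∧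
      (letI : Algebra Γ(S, V) Γ(X, U) := (f.appLE V U hUV).hom.toAlgebra
       letI : Algebra (MvPolynomial (Fin c) Γ(S, V)) Γ(X, U) :=
         (MvPolynomial.aeval (R := Γ(S, V)) t).toRingHom.toAlgebra
       Module.Flat (MvPolynomial (Fin c) Γ(S, V)) Γ(X, U)) ∧
      (letI : Algebra Γ(S, V) Γ(X, U) := (f.appLE V U hUV).hom.toAlgebra
       ∀ q' : Ideal Γ(X, U), q'.IsPrime → Ideal.ofList (List.ofFn t) ≤ q' →
         q'.under Γ(S, V) = (hU.primeIdealOf ⟨x, hx⟩).asIdeal.under Γ(S, V) →
         (q' ≤ (hU.primeIdealOf ⟨x, hx⟩).asIdeal ∨ (hU.primeIdealOf ⟨x, hx⟩).asIdeal ≤ q') →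
           q' = (hU.primeIdealOf ⟨x, hx⟩).asIdeal) := by
  classical
  obtain ⟨hflat, hCM⟩ := hcm
  have hCMmod := hCM.supportDim_eq_depth
  haveI := hCM
  let F := (f.fiber (f x)).presheaf.stalk (f.asFiber x)
  have hdim : ringKrullDim F = ((LocCoh.depth F F : ℕ∞) : WithBot ℕ∞) :=
    (Module.supportDim_self_eq_ringKrullDim (R := F)).symm.trans hCMmod
  obtain ⟨n, hn⟩ : ∃ n : ℕ, LocCoh.depth F F = n := by
    refine ⟨(LocCoh.depth F F).toNat, (ENat.coe_toNat fun h => ?_).symm⟩
    rw [h] at hdim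
    exact (ringKrullDim_lt_top (R := F)).ne hdim
  obtain ⟨e, hs, hlen, hmem, hreg, hregF⟩ := exists_fibre_regular f x n hn.ge
  let J := Ideal.map (f.stalkMap x).hom (IsLocalRing.maximalIdeal (S.presheaf.stalk (f x)))
  let rsF : List F := hs.map (fun a => e (Ideal.Quotient.mk J a))
  have hrsF : ∀ r ∈ rsF, r ∈ IsLocalRing.maximalIdeal F := by
    intro r hr
    obtain ⟨a, ha, rfl⟩ := List.mem_map.mp hr
    rw [IsLocalRing.mem_maximalIdeal]
    intro hu
    have hu' : IsUnit (Ideal.Quotient.mk J a) := by simpa using hu.map e.symm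
    haveI : Nontrivial (X.presheaf.stalk x ⧸ J) := e.toEquiv.nontrivial
    haveI : IsLocalHom (Ideal.Quotient.mk J) := IsLocalHom.of_surjective _ Ideal.Quotient.mk_surjective
    exact (IsLocalRing.mem_maximalIdeal _).mp (hmem a ha) (IsUnit.of_map _ _ hu')
  have hzero : ringKrullDim (F ⧸ Ideal.ofList rsF) = 0 := by
    have h := Groth.L04.supportDim_quotient_ofList_add (M := F) hregF hrsF
    rw [Module.supportDim_self_eq_ringKrullDim, hdim, hn] at h
    have hid : (Ideal.ofList rsF • (⊤ : Submodule F F)) = Ideal.ofList rsF := by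
      rw [smul_eq_mul, Ideal.mul_top]
    rw [Module.supportDim_eq_of_equiv (Submodule.quotEquivOfEq _ _ hid), Module.supportDim_quotient_eq_ringKrullDim] at h
    haveI : Nontrivial (F ⧸ Ideal.ofList rsF) := Ideal.Quotient.nontrivial_iff.mpr
      fun htop => (IsLocalRing.maximalIdeal.isMaximal F).ne_top (top_le_iff.mp (htop ▸ Ideal.span_le.mpr hrsF))
    refine le_antisymm ?_ ringKrullDim_nonneg_of_nontrivial
    have hge : (n : WithBot ℕ∞) ≤ rsF.length := by
      have : n ≤ rsF.length := by simpa [rsF] using hlen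
      exact_mod_cast this
    rcases hd : ringKrullDim (F ⧸ Ideal.ofList rsF) with _ | d
    · exact bot_le
    rw [hd] at h
    have h' : (d + rsF.length : ℕ∞) = n := WithBot.coe_injective h
    rcases eq_or_ne d 0 with rfl | hd0
    · exact le_rfl
    exfalso
    have hlt : (n : ℕ∞) < d + rsF.length := by
      have h1 : (n : ℕ∞) ≤ rsF.length := by exact_mod_cast (show n ≤ rsF.length by simpa [rsF] using hlen)
      refine h1.trans_lt ?_
      calc (rsF.length : ℕ∞) = 0 + rsF.length := (zero_add _).symm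
        _ < d + rsF.length := (ENat.add_lt_add_iff_right (ENat.coe_ne_top _)).mpr (pos_iff_ne_zero.mpr hd0)
    exact hlt.ne h'.symm
  obtain ⟨V, hV, U, hU, hUV, hx, t, -, ht, hflatU⟩ := exists_slice_data f x hflat hs hmem hreg ⊤ trivial
  letI : Algebra Γ(S, V) Γ(X, U) := (f.appLE V U hUV).hom.toAlgebra
  haveI : Algebra.FinitePresentation Γ(S, V) Γ(X, U) := f.finitePresentation_appLE hV hU hUV
  let q := (hU.primeIdealOf ⟨x, hx⟩).asIdeal
  have hxq : hU.fromSpec (hU.primeIdealOf ⟨x, hx⟩) = x := hU.fromSpec_primeIdealOf ⟨x, hx⟩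
  let p := q.under Γ(S, V)
  have hfx : ∀ P : PrimeSpectrum Γ(X, U), P.asIdeal.under Γ(S, V) = p ↔ f (hU.fromSpec P) = f x := by
    intro P
    have hx' := apply_fromSpec f hV hU hUV (hU.primeIdealOf ⟨x, hx⟩)
    rw [hxq] at hx'
    rw [apply_fromSpec f hV hU hUV P, hx']
    refine ⟨fun h => congrArg hV.fromSpec (PrimeSpectrum.ext h), fun h => ?_⟩
    exact congrArg PrimeSpectrum.asIdeal (hV.fromSpec.isOpenEmbedding.injective h)
  let I : Ideal Γ(X, U) := Ideal.ofList (List.ofFn t)
  letI : Algebra Γ(X, U) (X.presheaf.stalk x) := (X.presheaf.germ U x hx).hom.toAlgebra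
  haveI hloc : IsLocalization.AtPrime (X.presheaf.stalk x) q := hU.isLocalization_stalk ⟨x, hx⟩
  have hIq : I ≤ q := Ideal.span_le.mpr fun y hy => by
    obtain ⟨i, rfl⟩ := List.mem_ofFn.mp hy
    refine (IsLocalization.AtPrime.to_map_mem_maximal_iff (X.presheaf.stalk x) q _).mp ?_
    show X.presheaf.germ U x hx (t i) ∈ _
    rw [ht]
    exact hmem _ (List.get_mem _ _)
  -- no other prime of the slice over `p` is comparable with `q`
  have hiso : ∀ q' : Ideal Γ(X, U), q'.IsPrime → I ≤ q' → q'.under Γ(S, V) = p → (q' ≤ q ∨ q ≤ q') → q' = q := by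
    intro q' hq' hIq' hq'p hcomp
    rcases hcomp with hle | hge
    · let Q' := q'.map (algebraMap Γ(X, U) (X.presheaf.stalk x))
      haveI hQ' : Q'.IsPrime := Ideal.isPrime_map_of_isLocalizationAtPrime q hle
      have hcomap : Q'.comap (algebraMap Γ(X, U) (X.presheaf.stalk x)) = q' :=
        Ideal.under_map_of_isLocalizationAtPrime q hle
      have hJ : J ≤ Q' := by
        rw [Ideal.map_le_iff_le_comap]
        have hm : IsLocalRing.maximalIdeal (S.presheaf.stalk (f x)) =
            ((IsLocalRing.maximalIdeal (S.presheaf.stalk (f x))).comap (S.presheaf.germ V (f x) (hUV hx)).hom).map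
              (S.presheaf.germ V (f x) (hUV hx)).hom := by
          letI : Algebra Γ(S, V) (S.presheaf.stalk (f x)) := (S.presheaf.germ V (f x) (hUV hx)).hom.toAlgebra
          haveI : IsLocalization.AtPrime (S.presheaf.stalk (f x)) (hV.primeIdealOf ⟨f x, hUV hx⟩).asIdeal :=
            hV.isLocalization_stalk ⟨f x, hUV hx⟩
          exact (IsLocalization.map_comap (hV.primeIdealOf ⟨f x, hUV hx⟩).asIdeal.primeCompl _ _).symm
        rw [hm, Ideal.map_le_iff_le_comap, Ideal.comap_comap]
        intro r hr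
        have hnat : (f.stalkMap x) (S.presheaf.germ V (f x) (hUV hx) r) =
            X.presheaf.germ U x hx (f.appLE V U hUV r) := by
          rw [Scheme.Hom.appLE, CommRingCat.comp_apply]
          refine (Scheme.Hom.germ_stalkMap_apply f V x (hUV hx) r).trans ?_
          exact (X.presheaf.germ_res_apply _ x hx _).symm
        have hrp : r ∈ p := by
          show algebraMap Γ(S, V) Γ(X, U) r ∈ q
          refine (IsLocalization.AtPrime.to_map_mem_maximal_iff (X.presheaf.stalk x) q _).mp ?_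
          show X.presheaf.germ U x hx (f.appLE V U hUV r) ∈ _
          rw [← hnat, IsLocalRing.mem_maximalIdeal]
          exact (map_mem_nonunits_iff _ _).mpr ((IsLocalRing.mem_maximalIdeal _).mp hr)
        rw [Ideal.mem_comap, RingHom.comp_apply]
        show (f.stalkMap x) (S.presheaf.germ V (f x) (hUV hx) r) ∈ Q'
        rw [hnat]
        refine Ideal.mem_map_of_mem (algebraMap Γ(X, U) (X.presheaf.stalk x)) ?_
        rw [← hq'p] at hrp
        exact hrp
      let PF : Ideal F := (Q'.map (Ideal.Quotient.mk J)).map e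
      haveI : (Q'.map (Ideal.Quotient.mk J)).IsPrime :=
        Ideal.map_isPrime_of_surjective Ideal.Quotient.mk_surjective (by rwa [Ideal.mk_ker])
      haveI : PF.IsPrime := Ideal.map_isPrime_of_equiv e
      have hPF : Ideal.ofList rsF ≤ PF := Ideal.span_le.mpr fun r hr => by
        obtain ⟨a, ha, rfl⟩ := List.mem_map.mp hr
        obtain ⟨i, rfl⟩ := List.get_of_mem ha
        refine Ideal.mem_map_of_mem _ (Ideal.mem_map_of_mem _ ?_)
        rw [← ht i]
        exact Ideal.mem_map_of_mem (algebraMap Γ(X, U) (X.presheaf.stalk x))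
          (hIq' (Ideal.subset_span (List.mem_ofFn.mpr ⟨i, rfl⟩)))
      have hmax := eq_maximalIdeal_of_dim_zero _ hzero PF hPF
      refine le_antisymm hle fun a ha => ?_
      rw [← hcomap, Ideal.mem_comap]
      have ha' : e (Ideal.Quotient.mk J (algebraMap Γ(X, U) (X.presheaf.stalk x) a)) ∈ PF := by
        rw [hmax, IsLocalRing.mem_maximalIdeal]
        intro hu
        haveI : Nontrivial (X.presheaf.stalk x ⧸ J) := e.toEquiv.nontrivial
        haveI : IsLocalHom (Ideal.Quotient.mk J) := IsLocalHom.of_surjective _ Ideal.Quotient.mk_surjective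
        have hu' : IsUnit (Ideal.Quotient.mk J (algebraMap Γ(X, U) (X.presheaf.stalk x) a)) := by
          simpa using hu.map e.symm
        exact (IsLocalRing.mem_maximalIdeal _).mp
          ((IsLocalization.AtPrime.to_map_mem_maximal_iff (X.presheaf.stalk x) q a).mpr ha) (IsUnit.of_map _ _ hu')
      have h1 := (Ideal.mem_map_iff_of_surjective _ e.surjective).mp ha'
      obtain ⟨b, hb, hbe⟩ := h1
      rw [e.injective hbe] at hb
      have := Ideal.mem_comap.mpr hb
      rwa [Ideal.comap_map_of_surjective _ Ideal.Quotient.mk_surjective, ← RingHom.ker_eq_comap_bot, Ideal.mk_ker,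
        sup_eq_left.mpr hJ] at this
    · have hy : f (hU.fromSpec ⟨q', hq'⟩) = f x := (hfx ⟨q', hq'⟩).mp hq'p
      have hspec : x ⤳ hU.fromSpec ⟨q', hq'⟩ := by
        rw [← hxq]
        exact ((PrimeSpectrum.le_iff_specializes (hU.primeIdealOf ⟨x, hx⟩) ⟨q', hq'⟩).mp hge).map hU.fromSpec.continuous
      have hclosed : IsClosed ({⟨x, rfl⟩} : Set (f ⁻¹' {f x})) := by
        have := (f.fiberHomeo (f x)).isClosed_image.mpr hcl
        rwa [Set.image_singleton, show f.fiberHomeo (f x) (f.asFiber x) = ⟨x, rfl⟩ from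
          (f.fiberHomeo (f x)).apply_symm_apply _] at this
      obtain ⟨C, hC, hCeq⟩ := isClosed_induced_iff.mp hclosed
      have hxC : x ∈ C := (Set.ext_iff.mp hCeq ⟨x, rfl⟩).mpr rfl
      have hyC : hU.fromSpec ⟨q', hq'⟩ ∈ C := hspec.mem_closed hC hxC
      have : (⟨hU.fromSpec ⟨q', hq'⟩, hy⟩ : f ⁻¹' {f x}) = ⟨x, rfl⟩ :=
        (Set.ext_iff.mp hCeq ⟨hU.fromSpec ⟨q', hq'⟩, hy⟩).mp hyC
      have h2 : hU.fromSpec ⟨q', hq'⟩ = hU.fromSpec (hU.primeIdealOf ⟨x, hx⟩) :=
        (congrArg Subtype.val this).trans hxq.symm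
      exact congrArg PrimeSpectrum.asIdeal (hU.fromSpec.isOpenEmbedding.injective h2)
  refine ⟨hs.length, V, hV, U, hU, hUV, hx, t, fun i => ?_, hfx, hflatU, hiso⟩
  rw [ht]
  exact hmem _ (List.get_mem _ _)

theorem mainSlice {X S : Scheme.{u}} (f : X ⟶ S) [LocallyOfFinitePresentation f] (x : X)
    (hcm : MoreMor.IsCMAt f x) (hcl : IsClosed ({f.asFiber x} : Set ↑(f.fiber (f x)))) :
    ∃ (V : X.Opens) (Z : Scheme.{u}) (i : Z ⟶ (V : Scheme.{u})), Mor2.IsRegularClosedImmersion i ∧ x ∈ Set.range ⇑(i ≫ V.ι) ∧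
      Flat (i ≫ V.ι ≫ f) ∧ LocallyOfFinitePresentation (i ≫ V.ι ≫ f) ∧ LocallyQuasiFinite (i ≫ V.ι ≫ f) ∧
      ∀ z : Z, f (V.ι (i z)) = f x → V.ι (i z) = x := by
  classical
  obtain ⟨c, V, hV, U, hU, hUV, hx, t, hgerm, hfx, hflatU, hiso⟩ := exists_slice_isolated f x hcm hcl
  letI : Algebra Γ(S, V) Γ(X, U) := (f.appLE V U hUV).hom.toAlgebra
  haveI : Algebra.FinitePresentation Γ(S, V) Γ(X, U) := f.finitePresentation_appLE hV hU hUV
  let q := (hU.primeIdealOf ⟨x, hx⟩).asIdeal
  have hxq : hU.fromSpec (hU.primeIdealOf ⟨x, hx⟩) = x := hU.fromSpec_primeIdealOf ⟨x, hx⟩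
  let p := q.under Γ(S, V)
  let I : Ideal Γ(X, U) := Ideal.ofList (List.ofFn t)
  letI : Algebra Γ(X, U) (X.presheaf.stalk x) := (X.presheaf.germ U x hx).hom.toAlgebra
  haveI hloc : IsLocalization.AtPrime (X.presheaf.stalk x) q := hU.isLocalization_stalk ⟨x, hx⟩
  have hIq : I ≤ q := Ideal.span_le.mpr fun y hy => by
    obtain ⟨i, rfl⟩ := List.mem_ofFn.mp hy
    exact (IsLocalization.AtPrime.to_map_mem_maximal_iff (X.presheaf.stalk x) q _).mp (hgerm i)
  replace hiso : ∀ q' : Ideal Γ(X, U), q'.IsPrime → I ≤ q' → q'.under Γ(S, V) = p → (q' ≤ q ∨ q ≤ q') → q' = q :=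
    hiso
  replace hfx : ∀ P : PrimeSpectrum Γ(X, U), P.asIdeal.under Γ(S, V) = p ↔ f (hU.fromSpec P) = f x := hfx
  -- shrink to where the slice is quasi-finite and meets the fibre only in `x`
  let qb : Ideal (Γ(X, U) ⧸ I) := q.map (Ideal.Quotient.mk I)
  haveI : qb.IsPrime := Ideal.map_isPrime_of_surjective Ideal.Quotient.mk_surjective (by rwa [Ideal.mk_ker])
  have hqb : qb.comap (Ideal.Quotient.mk I) = q := by
    rw [Ideal.comap_map_of_surjective _ Ideal.Quotient.mk_surjective, ← RingHom.ker_eq_comap_bot, Ideal.mk_ker,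
      sup_eq_left.mpr hIq]
  haveI hqbp : qb.LiesOver p := ⟨by
    show q.under Γ(S, V) = qb.comap (algebraMap Γ(S, V) (Γ(X, U) ⧸ I))
    rw [Ideal.under_def, ← hqb]
    rfl⟩
  haveI : Algebra.QuasiFiniteAt Γ(S, V) qb := quasiFiniteAt_of_isolated p qb fun q' hq' hq'p hcomp => by
    have hle : I ≤ q'.comap (Ideal.Quotient.mk I) := fun a ha => by
      rw [Ideal.mem_comap, Ideal.Quotient.eq_zero_iff_mem.mpr ha]; exact zero_mem _
    have h1 := hiso (q'.comap (Ideal.Quotient.mk I)) inferInstance hle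
      (show (q'.comap (Ideal.Quotient.mk I)).under Γ(S, V) = p from hq'p.over.symm) (hcomp.imp (fun h => hqb ▸ Ideal.comap_mono h) fun h => hqb ▸ Ideal.comap_mono h)
    rw [← hqb] at h1
    exact Ideal.comap_injective_of_surjective _ Ideal.Quotient.mk_surjective h1
  obtain ⟨S'', hS'', r', hr', hbij⟩ := Algebra.QuasiFiniteAt.exists_fg_and_exists_notMem_and_awayMap_bijective
    (R := Γ(S, V)) qb
  obtain ⟨s', hs'q, hs'⟩ := Ideal.exists_not_mem_forall_mem_of_ne_of_liesOver p qb
  haveI : Module.Finite Γ(S, V) S'' := ⟨(Submodule.fg_top _).mpr hS''⟩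
  haveI : Algebra.QuasiFinite Γ(S, V) (Localization.Away r') := .trans _ S'' _
  haveI hQF : Algebra.QuasiFinite Γ(S, V) (Localization.Away (S''.val r')) := by
    let fa : Localization.Away r' →ₐ[Γ(S, V)] Localization.Away (S''.val r') := Localization.awayMapₐ S''.val r'
    exact Algebra.QuasiFinite.of_surjective_algHom fa (show Function.Surjective fa from hbij.2)
  obtain ⟨r, hr⟩ := Ideal.Quotient.mk_surjective (S''.val r')
  obtain ⟨s, rfl⟩ := Ideal.Quotient.mk_surjective s'
  have hrsq : r * s ∉ q := by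
    rw [← hqb, Ideal.mem_comap, map_mul]
    refine fun h => (‹qb.IsPrime›.mem_or_mem h).elim (fun h => hr' ?_) hs'q
    rw [hr] at h
    exact h
  let U' := X.basicOpen (r * s)
  have hU' : IsAffineOpen U' := hU.basicOpen _
  have hle : U' ≤ U := X.basicOpen_le _
  have hxU' : x ∈ U' := by
    rw [Scheme.mem_basicOpen X (r * s) x hx]
    exact IsLocalization.map_units (X.presheaf.stalk x) (⟨r * s, hrsq⟩ : q.primeCompl)
  let res : Γ(X, U) →+* Γ(X, U') := (X.presheaf.map (homOfLE hle).op).hom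
  let t' : Fin c → Γ(X, U') := fun i => res (t i)
  have hflatU' : letI : Algebra Γ(S, V) Γ(X, U') := (f.appLE V U' (hle.trans hUV)).hom.toAlgebra
      letI : Algebra (MvPolynomial (Fin c) Γ(S, V)) Γ(X, U') :=
        (MvPolynomial.aeval (R := Γ(S, V)) t').toRingHom.toAlgebra
      Module.Flat (MvPolynomial (Fin c) Γ(S, V)) Γ(X, U') := by
    letI : Algebra Γ(S, V) Γ(X, U') := (f.appLE V U' (hle.trans hUV)).hom.toAlgebra
    letI : Algebra (MvPolynomial (Fin c) Γ(S, V)) Γ(X, U') :=
      (MvPolynomial.aeval (R := Γ(S, V)) t').toRingHom.toAlgebra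
    letI : Algebra (MvPolynomial (Fin c) Γ(S, V)) Γ(X, U) :=
      (MvPolynomial.aeval (R := Γ(S, V)) t).toRingHom.toAlgebra
    haveI : Module.Flat (MvPolynomial (Fin c) Γ(S, V)) Γ(X, U) := hflatU
    letI : Algebra Γ(X, U) Γ(X, U') := res.toAlgebra
    haveI : IsLocalization.Away (r * s) Γ(X, U') := hU.isLocalization_basicOpen _
    haveI : Module.Flat Γ(X, U) Γ(X, U') := IsLocalization.flat _ (Submonoid.powers (r * s))
    haveI : IsScalarTower (MvPolynomial (Fin c) Γ(S, V)) Γ(X, U) Γ(X, U') :=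
      IsScalarTower.of_algebraMap_eq' (MvPolynomial.ringHom_ext (fun a => by
        show MvPolynomial.aeval (R := Γ(S, V)) t' (MvPolynomial.C a) =
          res (MvPolynomial.aeval (R := Γ(S, V)) t (MvPolynomial.C a))
        rw [MvPolynomial.aeval_C, MvPolynomial.aeval_C]
        exact RingHom.congr_fun (congrArg CommRingCat.Hom.hom (Scheme.Hom.appLE_map f hUV (homOfLE hle).op)).symm a)
      (fun i => by
        show MvPolynomial.aeval (R := Γ(S, V)) t' (MvPolynomial.X i) =
          res (MvPolynomial.aeval (R := Γ(S, V)) t (MvPolynomial.X i))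
        rw [MvPolynomial.aeval_X, MvPolynomial.aeval_X]))
    exact Module.Flat.trans (MvPolynomial (Fin c) Γ(S, V)) Γ(X, U) Γ(X, U')
  obtain ⟨-, h2, h3, h4, -⟩ := slice_of_flat f hV hU' (hle.trans hUV) t' hflatU' _ rfl
  let I' : Ideal Γ(X, U') := Ideal.ofList (List.ofFn t')
  have hI' : I.map res = I' := by
    rw [Ideal.map_ofList, List.map_ofFn]
    rfl
  refine ⟨U', _, Spec.map (CommRingCat.ofHom (Ideal.Quotient.mk I')) ≫ hU'.isoSpec.inv, h2, ?_, ?_, ?_, ?_, ?_⟩
  · refine (show Set.range ⇑(Spec.map (CommRingCat.ofHom (Ideal.Quotient.mk I')) ≫ hU'.fromSpec) =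
      Set.range ⇑((Spec.map (CommRingCat.ofHom (Ideal.Quotient.mk I')) ≫ hU'.isoSpec.inv) ≫ U'.ι) by
        rw [Category.assoc]; rfl) ▸ mem_range_slice hU' x hxU' _ fun y hy => ?_
    obtain ⟨i, rfl⟩ := List.mem_ofFn.mp hy
    rw [show X.presheaf.germ U' x hxU' (t' i) = X.presheaf.germ U x hx (t i) from
      X.presheaf.germ_res_apply (homOfLE hle) x hxU' (t i)]
    exact hgerm i
  · rw [Category.assoc]; exact h3
  · rw [Category.assoc]; exact h4
  · have hcomp : Spec.map (CommRingCat.ofHom (Ideal.Quotient.mk I')) ≫ hU'.fromSpec ≫ f =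
        Spec.map (f.appLE V U' (hle.trans hUV) ≫ CommRingCat.ofHom (Ideal.Quotient.mk I')) ≫ hV.fromSpec := by
      rw [Spec.map_comp, Category.assoc, IsAffineOpen.SpecMap_appLE_fromSpec]
    rw [Category.assoc]
    show LocallyQuasiFinite (Spec.map (CommRingCat.ofHom (Ideal.Quotient.mk I')) ≫ hU'.fromSpec ≫ f)
    rw [hcomp]
    haveI : LocallyQuasiFinite (Spec.map (f.appLE V U' (hle.trans hUV) ≫ CommRingCat.ofHom (Ideal.Quotient.mk I'))) := by
      rw [HasRingHomProperty.Spec_iff (P := @LocallyQuasiFinite)]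
      letI : Algebra Γ(S, V) Γ(X, U') := (f.appLE V U' (hle.trans hUV)).hom.toAlgebra
      show RingHom.QuasiFinite (algebraMap Γ(S, V) (Γ(X, U') ⧸ I'))
      rw [RingHom.quasiFinite_algebraMap]
      letI : Algebra Γ(X, U) Γ(X, U') := res.toAlgebra
      haveI : IsLocalization.Away (r * s) Γ(X, U') := hU.isLocalization_basicOpen _
      have hresR : ∀ a, res (algebraMap Γ(S, V) Γ(X, U) a) = algebraMap Γ(S, V) Γ(X, U') a := fun a =>
        RingHom.congr_fun (congrArg CommRingCat.Hom.hom (Scheme.Hom.appLE_map f hUV (homOfLE hle).op)) a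
      let g0 : (Γ(X, U) ⧸ I) →+* (Γ(X, U') ⧸ I') :=
        Ideal.quotientMap I' res (Ideal.map_le_iff_le_comap.mp hI'.le)
      have hg0 : ∀ a, g0 (Ideal.Quotient.mk I a) = Ideal.Quotient.mk I' (res a) := fun a => rfl
      have hunit : IsUnit (g0 (S''.val r')) := by
        rw [← hr, hg0]
        have : IsUnit (res (r * s)) := IsLocalization.Away.algebraMap_isUnit (r * s)
        rw [map_mul] at this
        exact (isUnit_of_mul_isUnit_left this).map _
      let g : Localization.Away (S''.val r') →ₐ[Γ(S, V)] (Γ(X, U') ⧸ I') :=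
        { IsLocalization.Away.lift (S''.val r') hunit with
          commutes' := fun a => by
            show IsLocalization.Away.lift (S''.val r') hunit (algebraMap Γ(S, V) _ a) = _
            rw [IsScalarTower.algebraMap_apply Γ(S, V) (Γ(X, U) ⧸ I) (Localization.Away (S''.val r')),
              IsLocalization.Away.lift_eq]
            show g0 (Ideal.Quotient.mk I (algebraMap Γ(S, V) Γ(X, U) a)) = _
            rw [hg0, hresR]
            rfl }
      have hg : ∀ a, g (algebraMap (Γ(X, U) ⧸ I) _ (Ideal.Quotient.mk I a)) = Ideal.Quotient.mk I' (res a) :=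
        fun a => IsLocalization.Away.lift_eq (S''.val r') hunit _
      refine Algebra.QuasiFinite.of_forall_exists_mul_mem_range g fun z => ?_
      obtain ⟨z, rfl⟩ := Ideal.Quotient.mk_surjective z
      obtain ⟨⟨a, ⟨_, m, rfl⟩⟩, ha⟩ := IsLocalization.surj (Submonoid.powers (r * s)) z
      refine ⟨algebraMap (Γ(X, U) ⧸ I) _ (Ideal.Quotient.mk I ((r * s) ^ m)), ?_,
        algebraMap (Γ(X, U) ⧸ I) _ (Ideal.Quotient.mk I a), ?_⟩
      · rw [hg]
        exact ((IsLocalization.map_units Γ(X, U') (⟨(r * s) ^ m, m, rfl⟩ : Submonoid.powers (r * s)))).map _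
      · rw [hg]
        show g (algebraMap _ _ (Ideal.Quotient.mk I a)) = _
        rw [hg, ← map_mul]
        exact congrArg _ ha.symm
    infer_instance
  · intro z hz
    let P := PrimeSpectrum.comap (Ideal.Quotient.mk I') z
    have hiz : U'.ι ((Spec.map (CommRingCat.ofHom (Ideal.Quotient.mk I')) ≫ hU'.isoSpec.inv) z) =
        hU.fromSpec (PrimeSpectrum.comap res P) := by
      show (hU'.fromSpec) P = _
      exact congr(($(hU.map_fromSpec hU' (homOfLE hle).op)) P).symm
    rw [hiz] at hz ⊢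
    let P₀ := PrimeSpectrum.comap res P
    have hP₀p : P₀.asIdeal.under Γ(S, V) = p := (hfx P₀).mpr hz
    have hIP₀ : I ≤ P₀.asIdeal := fun a ha => by
      show Ideal.Quotient.mk I' (res a) ∈ z.asIdeal
      rw [Ideal.Quotient.eq_zero_iff_mem.mpr (hI' ▸ Ideal.mem_map_of_mem res ha)]
      exact zero_mem _
    let Pb := P₀.asIdeal.map (Ideal.Quotient.mk I)
    haveI : Pb.IsPrime := Ideal.map_isPrime_of_surjective Ideal.Quotient.mk_surjective (by rwa [Ideal.mk_ker])
    have hPb : Pb.comap (Ideal.Quotient.mk I) = P₀.asIdeal := by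
      rw [Ideal.comap_map_of_surjective _ Ideal.Quotient.mk_surjective, ← RingHom.ker_eq_comap_bot, Ideal.mk_ker,
        sup_eq_left.mpr hIP₀]
    haveI : Pb.LiesOver p := ⟨by
      show p = Pb.comap (algebraMap Γ(S, V) (Γ(X, U) ⧸ I))
      rw [← hP₀p, Ideal.under_def, ← hPb]
      rfl⟩
    have hPq : P₀.asIdeal = q := by
      by_contra hne
      have h1 : Ideal.Quotient.mk I s ∈ Pb := hs' Pb inferInstance (fun h => hne (by rw [← hPb, h, hqb])) inferInstance
      have h2 : s ∈ P₀.asIdeal := hPb ▸ h1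
      have hu : IsUnit (res (r * s)) := by
        letI : Algebra Γ(X, U) Γ(X, U') := res.toAlgebra
        haveI : IsLocalization.Away (r * s) Γ(X, U') := hU.isLocalization_basicOpen _
        exact IsLocalization.Away.algebraMap_isUnit (r * s)
      exact P.isPrime.ne_top (Ideal.eq_top_of_isUnit_mem _ (show res (r * s) ∈ P.asIdeal from
        Ideal.mem_comap.mp (P₀.asIdeal.mul_mem_left r h2)) hu)
    exact (congrArg hU.fromSpec (show P₀ = hU.primeIdealOf ⟨x, hx⟩ from PrimeSpectrum.ext hPq)).trans hxq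

end L02.CAlg.QFSlice
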