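import Groth.Agent.L02.CAlg.QFSlice.Fibre
import Groth.Agent.L07.KoszulVars
import Groth.Agent.L13.Wild.Kunz
import Groth.Agent.L07.FibreFlat
import Mathlib.RingTheory.Regular.Flat
import Mathlib.RingTheory.MvPolynomial.Ideal

/-!
Slicing by a fibrewise regular sequence: the algebra becomes flat over a polynomial ring near the point.
-/

set_option autoImplicit false
set_option linter.style.haveILetI false
universe u

open TensorProduct RingTheory.Sequence IsLocalization

namespace L02.CAlg.QFSlice

theorem isWeaklyRegular_X (A : Type u) [CommRing A] (c : ℕ) :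
    IsWeaklyRegular (MvPolynomial (Fin c) A) (List.ofFn fun i => (MvPolynomial.X i : MvPolynomial (Fin c) A)) := by
  have h := Groth.L07.KoszulVars.isWeaklyRegular_X_quot (k := A) (List.finRange c) (∅ : Set (Fin c))
    (List.nodup_finRange _) (fun _ _ h => h)
  rw [← List.ofFn_eq_map] at h
  exact ((Submodule.quotEquivOfEqBot (Ideal.span ((MvPolynomial.X (R := A)) '' (∅ : Set (Fin c))))
    (by simp) : _ ≃ₗ[MvPolynomial (Fin c) A] MvPolynomial (Fin c) A).isWeaklyRegular_congr _).1 h

theorem mem_span_X_of_constantCoeff {A : Type u} [CommRing A] {c : ℕ} {x : MvPolynomial (Fin c) A}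
    (hx : MvPolynomial.constantCoeff x = 0) :
    x ∈ Ideal.span (Set.range (MvPolynomial.X : Fin c → MvPolynomial (Fin c) A)) := by
  rw [← Set.image_univ, MvPolynomial.mem_ideal_span_X_image]
  intro m hm
  by_contra h
  push Not at h
  have : m = 0 := Finsupp.ext fun i => h i (Set.mem_univ i)
  rw [MvPolynomial.mem_support_iff, this] at hm
  exact hm hx

/-- Miracle flatness on the fibre: `N` is flat over the local ring `C` of affine space at the origin. -/
theorem flat_of_regular_aux {R C N : Type u} [CommRing R] {c : ℕ}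
    [CommRing C] [Algebra R C] [Algebra (MvPolynomial (Fin c) R) C]
    [IsScalarTower R (MvPolynomial (Fin c) R) C]
    [CommRing N] [IsLocalRing N] [IsNoetherianRing N] [Algebra R N] [Algebra C N] [IsScalarTower R C N]
    (p : Ideal R) [p.IsPrime] (hC₀ : ∀ r ∈ p, algebraMap R C r = 0) (hC₁ : ∀ r ∉ p, IsUnit (algebraMap R C r))
    (hCfrac : ∀ x : C, ∃ u a : MvPolynomial (Fin c) R, IsUnit (algebraMap _ C u) ∧
      x * algebraMap _ C u = algebraMap _ C a)
    (hN₀ : ∀ i, algebraMap C N (algebraMap _ C (MvPolynomial.X i : MvPolynomial (Fin c) R)) ∈ IsLocalRing.maximalIdeal N)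
    (hN : IsWeaklyRegular N
      (List.ofFn fun i => algebraMap C N (algebraMap _ C (MvPolynomial.X i : MvPolynomial (Fin c) R)))) :
    Module.Flat C N := by
  let B := MvPolynomial (Fin c) R
  let k := p.ResidueField
  let P := MvPolynomial (Fin c) k
  obtain ⟨fk⟩ := exists_residueField_hom (C := C) p hC₀ hC₁
  letI : Algebra P C := (MvPolynomial.eval₂Hom fk.toRingHom
    fun i => algebraMap B C (MvPolynomial.X i)).toAlgebra
  letI : Algebra P N := Algebra.compHom N (algebraMap P C)
  haveI : IsScalarTower P C N := IsScalarTower.of_algebraMap_eq' rfl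
  have hPX : ∀ i, algebraMap P N (MvPolynomial.X i) = algebraMap C N (algebraMap B C (MvPolynomial.X i)) := fun i => by
    show algebraMap C N (MvPolynomial.eval₂Hom fk.toRingHom (fun i => algebraMap B C (MvPolynomial.X i)) (MvPolynomial.X i)) = _
    rw [MvPolynomial.eval₂Hom_X']
  let m₀ : Ideal P := RingHom.ker (MvPolynomial.constantCoeff : P →+* k)
  haveI : m₀.IsPrime := RingHom.ker_isPrime _
  have hm₀ : m₀ = Ideal.span (Set.range (MvPolynomial.X : Fin c → P)) :=
    le_antisymm (fun x hx => mem_span_X_of_constantCoeff hx)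
      (Ideal.span_le.mpr fun _ ⟨i, hi⟩ => hi ▸ RingHom.mem_ker.mpr (MvPolynomial.constantCoeff_X _ i))
  have hmax : ∀ x ∈ m₀, algebraMap P N x ∈ IsLocalRing.maximalIdeal N := by
    intro x hx
    have : m₀ ≤ (IsLocalRing.maximalIdeal N).comap (algebraMap P N) := by
      rw [hm₀, Ideal.span_le]
      rintro _ ⟨i, rfl⟩
      rw [SetLike.mem_coe, Ideal.mem_comap, hPX]
      exact hN₀ i
    exact this hx
  have hunit : ∀ y : m₀.primeCompl, IsUnit (algebraMap P N y) := by
    rintro ⟨y, hy⟩
    have h0 : MvPolynomial.constantCoeff y ≠ 0 := fun h => hy (RingHom.mem_ker.mpr h)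
    have h1 : IsUnit (algebraMap P N (MvPolynomial.C (MvPolynomial.constantCoeff y))) :=
      ((isUnit_iff_ne_zero.mpr h0).map MvPolynomial.C).map _
    have h2 : algebraMap P N (y - MvPolynomial.C (MvPolynomial.constantCoeff y)) ∈ IsLocalRing.maximalIdeal N :=
      hmax _ (RingHom.mem_ker.mpr (by rw [map_sub, MvPolynomial.constantCoeff_C, sub_self]))
    by_contra hne
    have h3 := Ideal.sub_mem _ ((IsLocalRing.mem_maximalIdeal _).mpr hne) h2
    rw [map_sub, sub_sub_cancel] at h3
    exact (IsLocalRing.mem_maximalIdeal _).mp h3 h1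
  let D := Localization.AtPrime m₀
  letI : Algebra D N := (IsLocalization.lift (M := m₀.primeCompl) hunit).toAlgebra
  haveI : IsScalarTower P D N :=
    IsScalarTower.of_algebraMap_eq fun x => (IsLocalization.lift_eq hunit x).symm
  haveI : IsLocalHom (algebraMap D N) := ⟨fun z hz => by
    obtain ⟨x, s, rfl⟩ := IsLocalization.exists_mk'_eq m₀.primeCompl z
    rw [IsLocalization.AtPrime.isUnit_mk'_iff D m₀]
    intro hx
    have hx' : algebraMap D N (IsLocalization.mk' D x s) * algebraMap P N s = algebraMap P N x := by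
      rw [IsScalarTower.algebraMap_apply P D N s, IsScalarTower.algebraMap_apply P D N x, ← map_mul,
        IsLocalization.mk'_spec]
    exact (IsLocalRing.mem_maximalIdeal _).mp (hmax x hx) (hx' ▸ hz.mul (hunit s))⟩
  let rs : List D := List.ofFn fun i : Fin c => algebraMap P D (MvPolynomial.X i)
  have hgen : Ideal.ofList rs = IsLocalRing.maximalIdeal D := by
    rw [← Localization.AtPrime.map_eq_maximalIdeal]
    refine Eq.trans ?_ (congrArg (Ideal.map (algebraMap P D)) hm₀).symm
    rw [Ideal.map_span, ← Set.range_comp]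
    apply congrArg Ideal.span
    ext x
    exact List.mem_ofFn.trans Iff.rfl
  have hD : IsWeaklyRegular D rs := by
    have := (isWeaklyRegular_X k c).of_flat (S := D)
    rwa [List.map_ofFn] at this
  have hN' : IsWeaklyRegular N rs := by
    rw [← isWeaklyRegular_map_algebraMap_iff (S := N), List.map_ofFn]
    convert hN using 2
    funext i
    show algebraMap D N (algebraMap P D (MvPolynomial.X i)) = _
    rw [← IsScalarTower.algebraMap_apply P D N, hPX]
  haveI : Module.Flat D N :=
    Groth.L13.Wild.Kunz.flat_of_isWeaklyRegular c D N rs (List.length_ofFn) hgen hD hN'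
  haveI : Module.Flat P N := Module.Flat.trans P D N
  refine flat_of_fractions (P := P) (fun x => ?_) N
  have hBP : ∀ b : B, algebraMap P C (MvPolynomial.map (algebraMap R k) b) = algebraMap B C b := by
    intro b
    refine RingHom.congr_fun (show (algebraMap P C).comp (MvPolynomial.map (algebraMap R k)) = algebraMap B C from
      MvPolynomial.ringHom_ext (fun r => ?_) fun i => ?_) b
    · show MvPolynomial.eval₂Hom fk.toRingHom (fun i => algebraMap B C (MvPolynomial.X i))
        (MvPolynomial.map (algebraMap R k) (MvPolynomial.C r)) = _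
      rw [MvPolynomial.map_C, MvPolynomial.eval₂Hom_C]
      exact (fk.commutes r).trans (IsScalarTower.algebraMap_apply R B C r)
    · show MvPolynomial.eval₂Hom fk.toRingHom (fun i => algebraMap B C (MvPolynomial.X i))
        (MvPolynomial.map (algebraMap R k) (MvPolynomial.X i)) = _
      rw [MvPolynomial.map_X, MvPolynomial.eval₂Hom_X']
  obtain ⟨u, a, hu, hua⟩ := hCfrac x
  exact ⟨MvPolynomial.map (algebraMap R k) u, MvPolynomial.map (algebraMap R k) a,
    by rw [hBP]; exact hu, by rw [hBP, hBP]; exact hua⟩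

/-- A quotient of the local ring of a finite type algebra by the prime of the base is Noetherian. -/
theorem isNoetherianRing_fibre_local {R S N : Type u} [CommRing R] [CommRing S] [Algebra R S]
    [Algebra.FiniteType R S] [CommRing N] [Algebra R N] [Algebra S N] [IsScalarTower R S N]
    (p : Ideal R) [p.IsPrime] (hN₀ : ∀ r ∈ p, algebraMap R N r = 0) (hN₁ : ∀ r ∉ p, IsUnit (algebraMap R N r))
    (hNs : ∀ n : N, ∃ u a : S, IsUnit (algebraMap S N u) ∧ n * algebraMap S N u = algebraMap S N a) :
    IsNoetherianRing N := by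
  obtain ⟨gk⟩ := exists_residueField_hom (C := N) p hN₀ hN₁
  haveI : IsNoetherianRing (p.Fiber S) := Algebra.FiniteType.isNoetherianRing p.ResidueField _
  let χ : p.Fiber S →ₐ[R] N :=
    Algebra.TensorProduct.lift gk (IsScalarTower.toAlgHom R S N) fun _ _ => Commute.all _ _
  have hχ : ∀ s, χ (1 ⊗ₜ s) = algebraMap S N s := fun s => by
    simp only [χ, Algebra.TensorProduct.lift_tmul, map_one, one_mul, IsScalarTower.toAlgHom_apply]
  rw [isNoetherianRing_iff_ideal_fg]
  intro I
  have : I = (I.comap χ.toRingHom).map χ.toRingHom := by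
    refine le_antisymm (fun n hn => ?_) Ideal.map_comap_le
    obtain ⟨u, a, hu, hua⟩ := hNs n
    have ha : ((1 : p.ResidueField) ⊗ₜ[R] a) ∈ I.comap χ.toRingHom := by
      show χ (1 ⊗ₜ a) ∈ I
      rw [hχ, ← hua]
      exact I.mul_mem_right _ hn
    have := Ideal.mem_map_of_mem χ.toRingHom ha
    rw [show χ.toRingHom ((1 : p.ResidueField) ⊗ₜ[R] a) = algebraMap S N a from hχ a, ← hua] at this
    exact (Ideal.mul_unit_mem_iff_mem _ hu).mp this
  rw [this]
  exact ((isNoetherianRing_iff_ideal_fg _).mp inferInstance _).map _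

/-- A sequence that is regular in the local ring of the fibre at `q` makes the algebra flat over the
polynomial ring near `q`. -/
theorem exists_flat_away_of_regular_fibre {R S : Type u} [CommRing R] [CommRing S] [Algebra R S]
    [Algebra.FinitePresentation R S] {c : ℕ}
    [Algebra (MvPolynomial (Fin c) R) S] [IsScalarTower R (MvPolynomial (Fin c) R) S]
    (q : Ideal S) [q.IsPrime] [Module.Flat R (Localization.AtPrime q)]
    (ht : ∀ i, algebraMap (MvPolynomial (Fin c) R) S (MvPolynomial.X i) ∈ q)
    (hreg : IsWeaklyRegular (Localization.AtPrime q ⧸ (q.under R).map (algebraMap R (Localization.AtPrime q)))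
      (List.ofFn fun i => Ideal.Quotient.mk ((q.under R).map (algebraMap R (Localization.AtPrime q)))
        (algebraMap S (Localization.AtPrime q) (algebraMap (MvPolynomial (Fin c) R) S (MvPolynomial.X i))))) :
    ∃ h ∉ q, Module.Flat (MvPolynomial (Fin c) R) (Localization.Away h) := by
  classical
  let B := MvPolynomial (Fin c) R
  let p : Ideal R := q.under R
  haveI hqp : q.LiesOver p := ⟨rfl⟩
  let Q : Ideal B := q.under B
  haveI : q.LiesOver Q := ⟨rfl⟩
  haveI : Q.LiesOver p := ⟨by rw [Ideal.under_under]⟩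
  let Rp := Localization.AtPrime p
  let Bq := Localization.AtPrime Q
  let Sq := Localization.AtPrime q
  letI := Localization.AtPrime.algebraOfLiesOver p Q
  letI := Localization.AtPrime.algebraOfLiesOver p q
  letI := Localization.AtPrime.algebraOfLiesOver Q q
  haveI : IsLocalHom (algebraMap Rp Bq) := Localization.isLocalHom_localRingHom _ _ _ _
  haveI : IsLocalHom (algebraMap Bq Sq) := Localization.isLocalHom_localRingHom _ _ _ _
  haveI : Module.Flat Rp Sq := (Module.flat_iff_of_isLocalization Rp p.primeCompl Sq).mpr inferInstance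
  let m := IsLocalRing.maximalIdeal Rp
  let I := m.map (algebraMap Rp Bq)
  let J := p.map (algebraMap R Sq)
  have hmp : m = p.map (algebraMap R Rp) := (Localization.AtPrime.map_eq_maximalIdeal).symm
  have hIJ : I.map (algebraMap Bq Sq) = J := by
    rw [show I.map (algebraMap Bq Sq) = (m.map (algebraMap Rp Bq)).map (algebraMap Bq Sq) from rfl,
      Ideal.map_map, ← IsScalarTower.algebraMap_eq, hmp, Ideal.map_map, ← IsScalarTower.algebraMap_eq]
  have hC₀ : ∀ r ∈ p, algebraMap R (Bq ⧸ I) r = 0 := fun r hr => by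
    rw [IsScalarTower.algebraMap_apply R Bq (Bq ⧸ I), Ideal.Quotient.algebraMap_eq,
      Ideal.Quotient.eq_zero_iff_mem, IsScalarTower.algebraMap_apply R Rp Bq]
    exact Ideal.mem_map_of_mem _ (hmp ▸ Ideal.mem_map_of_mem _ hr)
  have hC₁ : ∀ r ∉ p, IsUnit (algebraMap R (Bq ⧸ I) r) := fun r hr => by
    rw [IsScalarTower.algebraMap_apply R Bq (Bq ⧸ I), IsScalarTower.algebraMap_apply R Rp Bq]
    exact ((IsLocalization.map_units Rp (⟨r, hr⟩ : p.primeCompl)).map (algebraMap Rp Bq)).map
      (algebraMap Bq (Bq ⧸ I))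
  letI algCN : Algebra (Bq ⧸ I) (Sq ⧸ J) :=
    (Ideal.quotientMap J (algebraMap Bq Sq) (Ideal.map_le_iff_le_comap.mp hIJ.le)).toAlgebra
  have hquot : ∀ (c : Bq) (n : Sq), (Ideal.Quotient.mk I c) • (Ideal.Quotient.mk J n) = Ideal.Quotient.mk J (c • n) :=
    fun c n => by rw [Algebra.smul_def c n, map_mul]; rfl
  have hJle : J ≤ IsLocalRing.maximalIdeal Sq := by
    rw [Ideal.map_le_iff_le_comap]
    intro r hr
    rw [Ideal.mem_comap, IsScalarTower.algebraMap_apply R S Sq,
      ← Localization.AtPrime.map_eq_maximalIdeal]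
    exact Ideal.mem_map_of_mem _ hr
  haveI : Nontrivial (Sq ⧸ J) :=
    Ideal.Quotient.nontrivial_iff.mpr fun h => (IsLocalRing.maximalIdeal.isMaximal Sq).ne_top (top_le_iff.mp (h ▸ hJle))
  haveI : IsLocalRing (Sq ⧸ J) := IsLocalRing.of_surjective' (Ideal.Quotient.mk J) Ideal.Quotient.mk_surjective
  haveI : IsNoetherianRing (Sq ⧸ J) := by
    refine isNoetherianRing_fibre_local (R := R) (S := S) p (fun r hr => ?_) (fun r hr => ?_) fun n => ?_
    · exact Ideal.Quotient.eq_zero_iff_mem.mpr (Ideal.mem_map_of_mem _ hr)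
    · show IsUnit (Ideal.Quotient.mk J (algebraMap R Sq r))
      rw [IsScalarTower.algebraMap_apply R S Sq]
      exact (IsLocalization.map_units Sq (⟨algebraMap R S r, hr⟩ : q.primeCompl)).map (Ideal.Quotient.mk J)
    · obtain ⟨n, rfl⟩ := Ideal.Quotient.mk_surjective n
      obtain ⟨⟨a, u⟩, hau⟩ := IsLocalization.surj q.primeCompl n
      refine ⟨u, a, (IsLocalization.map_units Sq u).map (Ideal.Quotient.mk J), ?_⟩
      show Ideal.Quotient.mk J n * Ideal.Quotient.mk J (algebraMap S Sq u) = Ideal.Quotient.mk J (algebraMap S Sq a)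
      rw [← map_mul, hau]
  have hBS : ∀ b : B, @algebraMap (Bq ⧸ I) (Sq ⧸ J) _ _ algCN (algebraMap B (Bq ⧸ I) b) =
      Ideal.Quotient.mk J (algebraMap S Sq (algebraMap B S b)) := fun b =>
    (congrArg (Ideal.Quotient.mk J) (IsScalarTower.algebraMap_apply B Bq Sq b)).symm.trans
      (congrArg (Ideal.Quotient.mk J) (IsScalarTower.algebraMap_apply B S Sq b))
  have hflat : Module.Flat (Bq ⧸ I) (Sq ⧸ J) := by
    refine @flat_of_regular_aux R (Bq ⧸ I) (Sq ⧸ J) _ c _ _ _ _ _ _ _ _ algCN ?_ p _ hC₀ hC₁ ?_ ?_ ?_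
    · refine @IsScalarTower.of_algebraMap_eq R (Bq ⧸ I) (Sq ⧸ J) _ _ _ _ algCN _ fun r => ?_
      exact ((IsScalarTower.algebraMap_apply R Bq (Sq ⧸ J) r).trans rfl)
    · intro c
      obtain ⟨c, rfl⟩ := Ideal.Quotient.mk_surjective c
      obtain ⟨⟨a, u⟩, hau⟩ := IsLocalization.surj Q.primeCompl c
      refine ⟨u, a, (IsLocalization.map_units Bq u).map (Ideal.Quotient.mk I), ?_⟩
      show Ideal.Quotient.mk I c * Ideal.Quotient.mk I (algebraMap B Bq u) = Ideal.Quotient.mk I (algebraMap B Bq a)
      rw [← map_mul, hau]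
    · intro i
      rw [hBS, IsLocalRing.mem_maximalIdeal, mem_nonunits_iff]
      intro hu
      haveI : IsLocalHom (Ideal.Quotient.mk J) := IsLocalHom.of_surjective _ Ideal.Quotient.mk_surjective
      have hu' := IsLocalHom.map_nonunit (f := Ideal.Quotient.mk J) _ hu
      exact (IsLocalization.AtPrime.isUnit_to_map_iff Sq q _).mp hu' (ht i)
    · refine (congrArg (fun l => IsWeaklyRegular (Sq ⧸ J) l) (congrArg List.ofFn (funext fun i => hBS _))).mpr ?_
      exact hreg
  letI modCN : Module (Bq ⧸ I) (Sq ⧸ J) := @Algebra.toModule _ _ _ _ algCN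
  have hfib : Module.Flat (Bq ⧸ I) (Sq ⧸ I • (⊤ : Submodule Bq Sq)) := by
    let e₀ := (Submodule.quotEquivOfEq (I • (⊤ : Submodule Bq Sq)) (J.restrictScalars Bq)
        ((Ideal.smul_top_eq_map I).trans (by rw [hIJ]))).trans
      (Submodule.Quotient.restrictScalarsEquiv Bq J)
    let e : (Sq ⧸ I • (⊤ : Submodule Bq Sq)) ≃ₗ[Bq ⧸ I] (Sq ⧸ J) :=
      { e₀ with
        map_smul' := fun c x => by
          obtain ⟨c, rfl⟩ := Ideal.Quotient.mk_surjective c
          obtain ⟨n, rfl⟩ := Submodule.Quotient.mk_surjective _ x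
          show Ideal.Quotient.mk J (c • n) = (Ideal.Quotient.mk I c) • Ideal.Quotient.mk J n
          rw [hquot] }
    exact Module.Flat.of_linearEquiv e
  have h2106 := Groth.Agent.S2106.result (R := Rp) (S := Bq) (S' := Sq) (M := Sq)
    (isEssFP_atPrime p Q) (isEssFP_atPrime p q) hfib
  haveI := h2106.2
  haveI : Module.Flat B Sq := Module.Flat.trans B Bq Sq
  haveI : Algebra.FinitePresentation B S := Algebra.FinitePresentation.of_restrict_scalars_finitePresentation R B S
  haveI : Module.Flat B (LocalizedModule q.primeCompl S) :=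
    Module.Flat.of_linearEquiv
      ((IsLocalizedModule.iso q.primeCompl (Algebra.linearMap S Sq)).restrictScalars B)
  obtain ⟨h, hh, hflat⟩ := Groth.L20.exists_flat_away (R := B) (S := S) (M := S) q.primeCompl
  exact ⟨h, hh, Module.Flat.of_linearEquiv
    ((IsLocalizedModule.iso (Submonoid.powers h) (Algebra.linearMap S (Localization.Away h))).symm.restrictScalars B)⟩

/-- The variables form a weakly regular sequence on any flat algebra over a polynomial ring. -/
theorem isWeaklyRegular_of_flat_poly {A D : Type u} [CommRing A] [CommRing D] {c : ℕ}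
    [Algebra (MvPolynomial (Fin c) A) D] [Module.Flat (MvPolynomial (Fin c) A) D] :
    IsWeaklyRegular D (List.ofFn fun i => algebraMap (MvPolynomial (Fin c) A) D (MvPolynomial.X i)) := by
  have := (isWeaklyRegular_X A c).of_flat (S := D)
  rwa [List.map_ofFn] at this

/-- Killing the variables in a flat algebra over a polynomial ring leaves a flat algebra over the base. -/
theorem flat_quotient_of_flat_poly {A D : Type u} [CommRing A] [CommRing D] [Algebra A D] {c : ℕ}
    [Algebra (MvPolynomial (Fin c) A) D] [IsScalarTower A (MvPolynomial (Fin c) A) D]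
    [Module.Flat (MvPolynomial (Fin c) A) D] :
    Module.Flat A
      (D ⧸ Ideal.ofList (List.ofFn fun i => algebraMap (MvPolynomial (Fin c) A) D (MvPolynomial.X i))) := by
  let B := MvPolynomial (Fin c) A
  let I : Ideal B := RingHom.ker (MvPolynomial.constantCoeff : B →+* A)
  have hI : I.map (algebraMap B D) =
      Ideal.ofList (List.ofFn fun i => algebraMap B D (MvPolynomial.X i)) := by
    have : I = Ideal.ofList (List.ofFn fun i => (MvPolynomial.X i : B)) := by
      refine le_antisymm (fun x hx => ?_) (Ideal.span_le.mpr ?_)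
      · have := mem_span_X_of_constantCoeff (RingHom.mem_ker.mp hx)
        refine Ideal.span_mono ?_ this
        rintro _ ⟨i, rfl⟩
        exact List.mem_ofFn.mpr ⟨i, rfl⟩
      · intro x hx
        obtain ⟨i, rfl⟩ := List.mem_ofFn.mp hx
        exact RingHom.mem_ker.mpr (MvPolynomial.constantCoeff_X _ i)
    rw [this, Ideal.map_ofList, List.map_ofFn]
    rfl
  haveI : Module.Flat A (B ⧸ I) := by
    let e : (B ⧸ I) ≃ₐ[A] A := Ideal.quotientKerAlgEquivOfRightInverse (g := fun a => MvPolynomial.C a)
      (f := { (MvPolynomial.constantCoeff : B →+* A) with commutes' := fun a => MvPolynomial.constantCoeff_C _ a })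
      fun a => MvPolynomial.constantCoeff_C _ a
    exact Module.Flat.of_linearEquiv e.toLinearEquiv
  haveI := Groth.L07.FibreFlat.flat_tensor_of_flat (R := A) (B := B) D (B ⧸ I)
  exact Module.Flat.of_linearEquiv
    (((TensorProduct.tensorQuotEquivQuotSMul D I).trans
      ((Submodule.quotEquivOfEq _ ((Ideal.ofList (List.ofFn fun i => algebraMap B D (MvPolynomial.X i))).restrictScalars B)
          ((Ideal.smul_top_eq_map I).trans (by rw [hI]))).trans
        (Submodule.Quotient.restrictScalarsEquiv B _))).restrictScalars A).symm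

end L02.CAlg.QFSlice
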