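import Groth.Agent.L02.CAlg.QFSlice.BaseChange
import Groth.Prelude.Def_Mor2
import Mathlib.AlgebraicGeometry.Morphisms.Flat
import Mathlib.AlgebraicGeometry.Morphisms.FinitePresentation
import Mathlib.AlgebraicGeometry.PullbackCarrier
import Mathlib.RingTheory.RingHom.Flat

/-!
Slicing a morphism by a sequence which is regular on the fibre.
-/

set_option autoImplicit false
set_option linter.style.haveILetI false
universe u

open AlgebraicGeometry CategoryTheory Limits RingTheory.Sequence TensorProduct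

namespace L02.CAlg.QFSlice

theorem isPullback_pullback_map {Z Y X S S' : Scheme.{u}} (i : Z ⟶ Y) (h : Y ⟶ X) (h₀ : X ⟶ S) (g : S' ⟶ S)
    (hz : Z ⟶ S) (hy : Y ⟶ S) (e : hz = i ≫ hy) (he : hy = h ≫ h₀)
    (e₁ : hz ≫ 𝟙 S = i ≫ hy) (e₂ : g ≫ 𝟙 S = 𝟙 S' ≫ g) :
    IsPullback (pullback.map hz g hy g i (𝟙 S') (𝟙 S) e₁ e₂) (pullback.fst hz g) (pullback.fst hy g) i := by
  subst e
  exact (IsPullback.of_bot (h₁₁ := pullback.fst (i ≫ hy) g)
    (v₁₁ := pullback.map (i ≫ hy) g hy g i (𝟙 S') (𝟙 S) e₁ e₂) (v₂₁ := pullback.snd hy g)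
    (v₁₂ := i) (v₂₂ := hy) (h₃₁ := g) (h₂₁ := pullback.fst hy g)
    (by rw [pullback.lift_snd, Category.comp_id]; exact IsPullback.of_hasPullback _ _)
    (by rw [pullback.lift_fst]) (IsPullback.of_hasPullback hy g)).flip

/-- Lifting a list of germs to sections on a common neighbourhood. -/
theorem exists_lift_germs {X : Scheme.{u}} (x : X) (W : X.Opens) (hxW : x ∈ W) :
    ∀ hs : List (X.presheaf.stalk x), ∃ (W' : X.Opens) (hx : x ∈ W'), W' ≤ W ∧
      ∀ h ∈ hs, ∃ s : Γ(X, W'), X.presheaf.germ W' x hx s = h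
  | [] => ⟨W, hxW, le_rfl, fun h hh => nomatch hh⟩
  | h :: hs => by
    obtain ⟨W₁, hx₁, hle, hlift⟩ := exists_lift_germs x W hxW hs
    obtain ⟨W₂, hx₂, s₀, hs₀⟩ := X.presheaf.exists_germ_eq h
    refine ⟨W₁ ⊓ W₂, ⟨hx₁, hx₂⟩, inf_le_left.trans hle, fun h' hh' => ?_⟩
    rcases List.mem_cons.mp hh' with rfl | hh'
    · exact ⟨X.presheaf.map (homOfLE inf_le_right).op s₀,
        (X.presheaf.germ_res_apply (homOfLE inf_le_right) x ⟨hx₁, hx₂⟩ s₀).trans hs₀⟩
    · obtain ⟨s, hs'⟩ := hlift h' hh'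
      exact ⟨X.presheaf.map (homOfLE inf_le_left).op s,
        (X.presheaf.germ_res_apply (homOfLE inf_le_left) x ⟨hx₁, hx₂⟩ s).trans hs'⟩

/-- A slice cut out by the variables of a flat algebra over a polynomial ring. -/
theorem slice_of_flat {X S : Scheme.{u}} (f : X ⟶ S) [LocallyOfFinitePresentation f] {V : S.Opens}
    (hV : IsAffineOpen V) {U : X.Opens} (hU : IsAffineOpen U) (hUV : U ≤ f ⁻¹ᵁ V) {c : ℕ}
    (t : Fin c → Γ(X, U))
    (hflat : letI : Algebra Γ(S, V) Γ(X, U) := (f.appLE V U hUV).hom.toAlgebra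
      letI : Algebra (MvPolynomial (Fin c) Γ(S, V)) Γ(X, U) :=
        (MvPolynomial.aeval (R := Γ(S, V)) t).toRingHom.toAlgebra
      Module.Flat (MvPolynomial (Fin c) Γ(S, V)) Γ(X, U))
    (hs' : List Γ(X, U)) (hhs' : hs' = List.ofFn t) :
    IsWeaklyRegular Γ(X, U) hs' ∧
    Mor2.IsRegularClosedImmersion (Spec.map (CommRingCat.ofHom (Ideal.Quotient.mk (Ideal.ofList hs'))) ≫ hU.isoSpec.inv) ∧
    Flat (Spec.map (CommRingCat.ofHom (Ideal.Quotient.mk (Ideal.ofList hs'))) ≫ hU.fromSpec ≫ f) ∧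
    LocallyOfFinitePresentation (Spec.map (CommRingCat.ofHom (Ideal.Quotient.mk (Ideal.ofList hs'))) ≫ hU.fromSpec ≫ f) ∧
    ∀ (S' : Scheme.{u}) (g : S' ⟶ S), Mor2.IsRegularClosedImmersion
      (pullback.map (Spec.map (CommRingCat.ofHom (Ideal.Quotient.mk (Ideal.ofList hs'))) ≫ hU.isoSpec.inv ≫ U.ι ≫ f) g (U.ι ≫ f) g
        (Spec.map (CommRingCat.ofHom (Ideal.Quotient.mk (Ideal.ofList hs'))) ≫ hU.isoSpec.inv) (𝟙 S') (𝟙 S)
        (Category.comp_id _) ((Category.comp_id g).trans (Category.id_comp g).symm)) := by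
  classical
  letI : Algebra Γ(S, V) Γ(X, U) := (f.appLE V U hUV).hom.toAlgebra
  let B := MvPolynomial (Fin c) Γ(S, V)
  letI : Algebra B Γ(X, U) := (MvPolynomial.aeval (R := Γ(S, V)) t).toRingHom.toAlgebra
  haveI : Module.Flat B Γ(X, U) := hflat
  haveI : IsScalarTower Γ(S, V) B Γ(X, U) := IsScalarTower.of_algebraMap_eq fun r =>
    ((MvPolynomial.aeval (R := Γ(S, V)) t).commutes r).symm
  have ht : ∀ i, algebraMap B Γ(X, U) (MvPolynomial.X i) = t i := fun i => MvPolynomial.aeval_X t i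
  have hlist : hs' = List.ofFn fun i => algebraMap B Γ(X, U) (MvPolynomial.X i) :=
    hhs'.trans (congrArg List.ofFn (funext fun i => (ht i).symm))
  let D : CommRingCat := Γ(X, U)
  let I : Ideal Γ(X, U) := Ideal.ofList hs'
  let i := Spec.map (CommRingCat.ofHom (Ideal.Quotient.mk I)) ≫ hU.isoSpec.inv
  have hwr : IsWeaklyRegular Γ(X, U) hs' := hlist ▸ isWeaklyRegular_of_flat_poly (A := Γ(S, V)) (D := Γ(X, U)) (c := c)
  haveI : IsClosedImmersion (Spec.map (CommRingCat.ofHom (Ideal.Quotient.mk I))) :=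
    IsClosedImmersion.spec_of_surjective _ Ideal.Quotient.mk_surjective
  haveI : IsClosedImmersion i := inferInstance
  have hsq : IsPullback (Spec.map (CommRingCat.ofHom (Ideal.Quotient.mk I))) (𝟙 _) hU.isoSpec.inv i :=
    IsPullback.of_vert_isIso ⟨by rw [Category.id_comp]⟩
  have hcomp : Spec.map (CommRingCat.ofHom (Ideal.Quotient.mk I)) ≫ hU.fromSpec ≫ f =
      Spec.map (f.appLE V U hUV ≫ CommRingCat.ofHom (Ideal.Quotient.mk I)) ≫ hV.fromSpec := by
    rw [Spec.map_comp, Category.assoc, IsAffineOpen.SpecMap_appLE_fromSpec]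
  refine ⟨hwr, ?_, ?_, ?_, fun S' g => ?_⟩
  · exact isRegularClosedImmersion_of_charts i fun z =>
      ⟨D, hU.isoSpec.inv, inferInstance, hs', 𝟙 _,
        ⟨Spec.map (CommRingCat.ofHom (Ideal.Quotient.mk I)) z, (Scheme.Hom.comp_apply _ _ z).symm⟩,
        hwr, hsq⟩
  · rw [hcomp]
    haveI : Flat (Spec.map (f.appLE V U hUV ≫ CommRingCat.ofHom (Ideal.Quotient.mk I))) := by
      rw [Flat.SpecMap_iff, CommRingCat.hom_comp, CommRingCat.hom_ofHom]
      have h := flat_quotient_of_flat_poly (A := Γ(S, V)) (D := Γ(X, U)) (c := c)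
      rw [← hlist] at h
      show RingHom.Flat ((Ideal.Quotient.mk I).comp (algebraMap Γ(S, V) Γ(X, U)))
      exact RingHom.flat_algebraMap_iff.mpr h
    infer_instance
  · rw [hcomp]
    haveI : LocallyOfFinitePresentation (Spec.map (f.appLE V U hUV ≫ CommRingCat.ofHom (Ideal.Quotient.mk I))) := by
      rw [HasRingHomProperty.Spec_iff (P := @LocallyOfFinitePresentation), CommRingCat.hom_comp, CommRingCat.hom_ofHom]
      exact (RingHom.FinitePresentation.of_surjective _ Ideal.Quotient.mk_surjective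
        (by rw [Ideal.mk_ker]; exact ⟨hs'.toFinset, by simp [I, Ideal.ofList]⟩)).comp (f.finitePresentation_appLE hV hU hUV)
    infer_instance
  let hz := Spec.map (CommRingCat.ofHom (Ideal.Quotient.mk I)) ≫ hU.isoSpec.inv ≫ U.ι ≫ f
  let i' := pullback.map hz g (U.ι ≫ f) g i (𝟙 S') (𝟙 S)
    (Category.comp_id _) ((Category.comp_id g).trans (Category.id_comp g).symm)
  have hsq' : IsPullback i' (pullback.fst hz g) (pullback.fst (U.ι ≫ f) g) i :=
    isPullback_pullback_map i U.ι f g hz (U.ι ≫ f) (Category.assoc _ _ _).symm rfl _ _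
  haveI : IsClosedImmersion i' := MorphismProperty.of_isPullback hsq'.flip inferInstance
  refine isRegularClosedImmersion_of_charts i' fun z => ?_
  have hgs : g (pullback.snd (U.ι ≫ f) g (i' z)) ∈ V := by
    rw [← Scheme.Hom.comp_apply, ← pullback.condition, Scheme.Hom.comp_apply, Scheme.Hom.comp_apply]
    exact hUV (pullback.fst (U.ι ≫ f) g (i' z)).2
  obtain ⟨_, ⟨W, hW, rfl⟩, hzW, hWV⟩ := S'.isBasis_affineOpens.exists_subset_of_mem_open hgs (g ⁻¹ᵁ V).2
  replace hW : IsAffineOpen W := hW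
  letI : Algebra Γ(S, V) Γ(S', W) := (g.appLE V W hWV).hom.toAlgebra
  have e₁ : Spec.map (CommRingCat.ofHom (algebraMap Γ(S, V) Γ(X, U))) ≫ hV.fromSpec =
      hU.isoSpec.inv ≫ U.ι ≫ f :=
    (IsAffineOpen.SpecMap_appLE_fromSpec f hV hU hUV).trans (Category.assoc _ _ _)
  have e₂ : Spec.map (CommRingCat.ofHom (algebraMap Γ(S, V) Γ(S', W))) ≫ hV.fromSpec = hW.fromSpec ≫ g :=
    IsAffineOpen.SpecMap_appLE_fromSpec g hV hW hWV
  let φ₀ := (pullbackSpecIso Γ(S, V) Γ(X, U) Γ(S', W)).inv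
  let φ := φ₀ ≫ pullback.map _ _ (U.ι ≫ f) g hU.isoSpec.inv hW.fromSpec hV.fromSpec e₁ e₂
  let j : Γ(X, U) →+* Γ(X, U) ⊗[Γ(S, V)] Γ(S', W) := Algebra.TensorProduct.includeLeftRingHom
  let rs := hs'.map j
  obtain ⟨b, hb⟩ := isPullback_Spec_quotient j I (Ideal.ofList rs) (Ideal.map_ofList j hs').symm
  have hpaste := hb.paste_vert hsq
  refine ⟨CommRingCat.of (Γ(X, U) ⊗[Γ(S, V)] Γ(S', W)), φ, inferInstance, rs, ?_, ?_, ?_, ?_⟩
  rotate_left
  · rw [Scheme.Hom.comp_base, TopCat.coe_comp, Set.range_comp,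
      show Set.range ⇑φ₀ = Set.univ from Set.range_eq_univ.mpr
        (Scheme.homeoOfIso (pullbackSpecIso Γ(S, V) Γ(X, U) Γ(S', W)).symm).surjective,
      Set.image_univ, Scheme.Pullback.range_map]
    refine ⟨?_, ?_⟩
    · exact (Scheme.homeoOfIso hU.isoSpec.symm).surjective _
    · rw [Set.mem_preimage, IsAffineOpen.range_fromSpec]
      exact hzW
  · show IsWeaklyRegular (Γ(X, U) ⊗[Γ(S, V)] Γ(S', W)) rs
    have h := isWeaklyRegular_baseChange (R := Γ(S, V)) (D := Γ(X, U)) (c := c) Γ(S', W)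
    rw [show rs = List.ofFn fun i : Fin c => algebraMap B Γ(X, U) (MvPolynomial.X i) ⊗ₜ[Γ(S, V)] (1 : Γ(S', W)) from
      (congrArg (List.map j) hlist).trans List.map_ofFn]
    exact h
  rotate_right
  · exact IsPullback.lift hsq' (Spec.map (CommRingCat.ofHom (Ideal.Quotient.mk (Ideal.ofList rs))) ≫ φ) (b ≫ 𝟙 _) (by
      rw [Category.assoc, ← hpaste.w]
      congr 1
      show (φ₀ ≫ pullback.map _ _ (U.ι ≫ f) g hU.isoSpec.inv hW.fromSpec hV.fromSpec e₁ e₂) ≫ pullback.fst _ _ = _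
      rw [Category.assoc, pullback.lift_fst, ← Category.assoc]
      exact congrArg (· ≫ hU.isoSpec.inv) (pullbackSpecIso_inv_fst Γ(S, V) Γ(X, U) Γ(S', W)))
  · refine IsPullback.of_bot' ?_ hsq'
    have : φ ≫ pullback.fst (U.ι ≫ f) g = Spec.map (CommRingCat.ofHom j) ≫ hU.isoSpec.inv := by
      show (φ₀ ≫ pullback.map _ _ (U.ι ≫ f) g hU.isoSpec.inv hW.fromSpec hV.fromSpec e₁ e₂) ≫ pullback.fst _ _ = _
      rw [Category.assoc, pullback.lift_fst, ← Category.assoc]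
      exact congrArg (· ≫ hU.isoSpec.inv) (pullbackSpecIso_inv_fst Γ(S, V) Γ(X, U) Γ(S', W))
    rw [this]
    exact hpaste

/-- The point lies on the slice. -/
theorem mem_range_slice {X : Scheme.{u}} {U : X.Opens} (hU : IsAffineOpen U) (x : X) (hx : x ∈ U)
    (hs' : List Γ(X, U)) (h : ∀ y ∈ hs', X.presheaf.germ U x hx y ∈ IsLocalRing.maximalIdeal (X.presheaf.stalk x)) :
    x ∈ Set.range ⇑(Spec.map (CommRingCat.ofHom (Ideal.Quotient.mk (Ideal.ofList hs'))) ≫ hU.fromSpec) := by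
  letI : Algebra Γ(X, U) (X.presheaf.stalk x) := (X.presheaf.germ U x hx).hom.toAlgebra
  haveI : IsLocalization.AtPrime (X.presheaf.stalk x) (hU.primeIdealOf ⟨x, hx⟩).asIdeal :=
    hU.isLocalization_stalk ⟨x, hx⟩
  have hI : Ideal.ofList hs' ≤ (hU.primeIdealOf ⟨x, hx⟩).asIdeal := Ideal.span_le.mpr fun y hy =>
    (IsLocalization.AtPrime.to_map_mem_maximal_iff (X.presheaf.stalk x) (hU.primeIdealOf ⟨x, hx⟩).asIdeal y).mp
      (h y hy)
  obtain ⟨y, hy⟩ := (range_comap_of_surjective _ (Ideal.Quotient.mk (Ideal.ofList hs')) Ideal.Quotient.mk_surjective).ge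
    (show hU.primeIdealOf ⟨x, hx⟩ ∈ PrimeSpectrum.zeroLocus
      (RingHom.ker (Ideal.Quotient.mk (Ideal.ofList hs')) : Set Γ(X, U)) by
        rw [Ideal.mk_ker]; exact hI)
  exact ⟨y, (congrArg hU.fromSpec hy).trans (hU.fromSpec_primeIdealOf ⟨x, hx⟩)⟩

/-- Lifts of a fibrewise regular sequence near `x`, with flatness over the polynomial ring. -/
theorem exists_slice_data {X S : Scheme.{u}} (f : X ⟶ S) [LocallyOfFinitePresentation f] (x : X)
    (hflat : (f.stalkMap x).hom.Flat) (hs : List (X.presheaf.stalk x))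
    (hmem : ∀ h ∈ hs, h ∈ IsLocalRing.maximalIdeal (X.presheaf.stalk x))
    (hreg : IsWeaklyRegular
      (X.presheaf.stalk x ⧸ Ideal.map (f.stalkMap x).hom (IsLocalRing.maximalIdeal (S.presheaf.stalk (f x))))
      (hs.map (Ideal.Quotient.mk (Ideal.map (f.stalkMap x).hom (IsLocalRing.maximalIdeal (S.presheaf.stalk (f x)))))))
    (W : X.Opens) (hxW : x ∈ W) :
    ∃ (V : S.Opens) (_ : IsAffineOpen V) (U : X.Opens) (_ : IsAffineOpen U) (hUV : U ≤ f ⁻¹ᵁ V) (hx : x ∈ U)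
      (t : Fin hs.length → Γ(X, U)), U ≤ W ∧ (∀ i, X.presheaf.germ U x hx (t i) = hs.get i) ∧
      (letI : Algebra Γ(S, V) Γ(X, U) := (f.appLE V U hUV).hom.toAlgebra
      letI : Algebra (MvPolynomial (Fin hs.length) Γ(S, V)) Γ(X, U) :=
        (MvPolynomial.aeval (R := Γ(S, V)) t).toRingHom.toAlgebra
      Module.Flat (MvPolynomial (Fin hs.length) Γ(S, V)) Γ(X, U)) := by
  classical
  obtain ⟨_, ⟨V, hV, rfl⟩, hfV, -⟩ := S.isBasis_affineOpens.exists_subset_of_mem_open (Set.mem_univ (f x)) isOpen_univ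
  obtain ⟨W', hxW', hW'le, hlift⟩ := exists_lift_germs x (W ⊓ f ⁻¹ᵁ V) ⟨hxW, hfV⟩ hs
  obtain ⟨_, ⟨U₁, hU₁, rfl⟩, hx₁, hU₁W'⟩ := X.isBasis_affineOpens.exists_subset_of_mem_open hxW' W'.2
  have hU₁V : U₁ ≤ f ⁻¹ᵁ V := fun y hy => (hW'le (hU₁W' hy)).2
  choose sec hsec using hlift
  let c := hs.length
  let t₁ : Fin c → Γ(X, U₁) := fun i =>
    X.presheaf.map (homOfLE (hU₁W' : U₁ ≤ W')).op (sec (hs.get i) (List.get_mem _ _))
  have ht₁ : ∀ i, X.presheaf.germ U₁ x hx₁ (t₁ i) = hs.get i := fun i =>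
    (X.presheaf.germ_res_apply _ x hx₁ _).trans (hsec _ _)
  letI algRD : Algebra Γ(S, V) Γ(X, U₁) := (f.appLE V U₁ hU₁V).hom.toAlgebra
  haveI : Algebra.FinitePresentation Γ(S, V) Γ(X, U₁) := f.finitePresentation_appLE hV hU₁ hU₁V
  let B := MvPolynomial (Fin c) Γ(S, V)
  letI algBD : Algebra B Γ(X, U₁) := (MvPolynomial.aeval (R := Γ(S, V)) t₁).toRingHom.toAlgebra
  haveI : IsScalarTower Γ(S, V) B Γ(X, U₁) := IsScalarTower.of_algebraMap_eq fun r =>
    ((MvPolynomial.aeval (R := Γ(S, V)) t₁).commutes r).symm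
  let q := (hU₁.primeIdealOf ⟨x, hx₁⟩).asIdeal
  letI : Algebra Γ(X, U₁) (X.presheaf.stalk x) := (X.presheaf.germ U₁ x hx₁).hom.toAlgebra
  haveI hloc : IsLocalization.AtPrime (X.presheaf.stalk x) q := hU₁.isLocalization_stalk ⟨x, hx₁⟩
  let Sq := Localization.AtPrime q
  let e : Sq ≃ₐ[Γ(X, U₁)] X.presheaf.stalk x :=
    IsLocalization.algEquiv q.primeCompl Sq (X.presheaf.stalk x)
  letI : Algebra Γ(S, V) (X.presheaf.stalk x) :=
    ((algebraMap Γ(X, U₁) (X.presheaf.stalk x)).comp (algebraMap Γ(S, V) Γ(X, U₁))).toAlgebra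
  haveI : IsScalarTower Γ(S, V) Γ(X, U₁) (X.presheaf.stalk x) := IsScalarTower.of_algebraMap_eq' rfl
  let gV : Γ(S, V) →+* S.presheaf.stalk (f x) := (S.presheaf.germ V (f x) hfV).hom
  have hnat : algebraMap Γ(S, V) (X.presheaf.stalk x) = (f.stalkMap x).hom.comp gV := by
    refine RingHom.ext fun r => ?_
    show X.presheaf.germ U₁ x hx₁ (f.appLE V U₁ hU₁V r) = f.stalkMap x (S.presheaf.germ V (f x) hfV r)
    rw [Scheme.Hom.germ_stalkMap_apply, Scheme.Hom.appLE, CommRingCat.comp_apply]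
    exact X.presheaf.germ_res_apply _ x hx₁ _
  haveI : Module.Flat Γ(S, V) (X.presheaf.stalk x) := by
    rw [← RingHom.flat_algebraMap_iff, hnat]
    refine RingHom.Flat.comp ?_ hflat
    letI : Algebra Γ(S, V) (S.presheaf.stalk (f x)) := gV.toAlgebra
    haveI : IsLocalization.AtPrime (S.presheaf.stalk (f x)) (hV.primeIdealOf ⟨f x, hfV⟩).asIdeal :=
      hV.isLocalization_stalk ⟨f x, hfV⟩
    exact RingHom.flat_algebraMap_iff.mpr (IsLocalization.flat _ (hV.primeIdealOf ⟨f x, hfV⟩).asIdeal.primeCompl)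
  haveI : Module.Flat Γ(S, V) Sq := Module.Flat.of_linearEquiv (e.toLinearEquiv.restrictScalars Γ(S, V))
  have hqmax : ∀ s : Γ(X, U₁), s ∈ q ↔ X.presheaf.germ U₁ x hx₁ s ∈ IsLocalRing.maximalIdeal (X.presheaf.stalk x) :=
    fun s => (IsLocalization.AtPrime.to_map_mem_maximal_iff (X.presheaf.stalk x) q s).symm
  have hp : q.under Γ(S, V) = (IsLocalRing.maximalIdeal (S.presheaf.stalk (f x))).comap gV := by
    ext r
    rw [Ideal.under_def, Ideal.mem_comap, Ideal.mem_comap, hqmax]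
    show (algebraMap Γ(S, V) (X.presheaf.stalk x)) r ∈ _ ↔ _
    rw [hnat, RingHom.comp_apply, IsLocalRing.mem_maximalIdeal, IsLocalRing.mem_maximalIdeal]
    exact map_mem_nonunits_iff _ _
  have hJ : Ideal.map (f.stalkMap x).hom (IsLocalRing.maximalIdeal (S.presheaf.stalk (f x))) =
      (q.under Γ(S, V)).map (algebraMap Γ(S, V) (X.presheaf.stalk x)) := by
    letI : Algebra Γ(S, V) (S.presheaf.stalk (f x)) := gV.toAlgebra
    haveI : IsLocalization.AtPrime (S.presheaf.stalk (f x)) (hV.primeIdealOf ⟨f x, hfV⟩).asIdeal :=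
      hV.isLocalization_stalk ⟨f x, hfV⟩
    rw [hnat, hp, ← Ideal.map_map]
    exact congrArg _ (IsLocalization.map_comap (hV.primeIdealOf ⟨f x, hfV⟩).asIdeal.primeCompl _ _).symm
  have hq : ∀ i, algebraMap B Γ(X, U₁) (MvPolynomial.X i) ∈ q := fun i => by
    rw [show algebraMap B Γ(X, U₁) (MvPolynomial.X i) = t₁ i from MvPolynomial.aeval_X t₁ i, hqmax, ht₁]
    exact hmem _ (List.get_mem _ _)
  have hreg' : IsWeaklyRegular (Sq ⧸ (q.under Γ(S, V)).map (algebraMap Γ(S, V) Sq))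
      (List.ofFn fun i => Ideal.Quotient.mk ((q.under Γ(S, V)).map (algebraMap Γ(S, V) Sq))
        (algebraMap Γ(X, U₁) Sq (algebraMap B Γ(X, U₁) (MvPolynomial.X i)))) := by
    let Ee := Ideal.quotientEquiv (Ideal.map (f.stalkMap x).hom (IsLocalRing.maximalIdeal (S.presheaf.stalk (f x))))
      ((q.under Γ(S, V)).map (algebraMap Γ(S, V) Sq)) e.symm.toRingEquiv (by
        rw [hJ, Ideal.map_map]
        congr 1
        exact RingHom.ext fun r => ((e.symm.restrictScalars Γ(S, V)).commutes r).symm)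
    have h := isWeaklyRegular_map_equiv Ee hreg
    rw [List.map_map] at h
    refine (congrArg (fun l => IsWeaklyRegular _ l) ?_).mpr h
    conv_rhs => rw [← List.ofFn_get hs, List.map_ofFn]
    refine congrArg List.ofFn (funext fun i => ?_)
    show _ = Ideal.Quotient.mk _ (e.symm (hs.get i))
    rw [← ht₁ i, show algebraMap B Γ(X, U₁) (MvPolynomial.X i) = t₁ i from MvPolynomial.aeval_X t₁ i]
    exact congrArg _ (e.symm.commutes (t₁ i)).symm
  obtain ⟨h, hhq, hBflat⟩ := exists_flat_away_of_regular_fibre (R := Γ(S, V)) (S := Γ(X, U₁)) q hq hreg'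
  haveI := hBflat
  let U := X.basicOpen h
  have hU : IsAffineOpen U := hU₁.basicOpen h
  have hle : U ≤ U₁ := X.basicOpen_le h
  have hx : x ∈ U := by
    rw [Scheme.mem_basicOpen X h x hx₁]
    by_contra hne
    exact hhq ((hqmax h).mpr ((IsLocalRing.mem_maximalIdeal _).mpr hne))
  let res : Γ(X, U₁) →+* Γ(X, U) := (X.presheaf.map (homOfLE hle).op).hom
  let hs' : List Γ(X, U) := List.ofFn fun i => res (t₁ i)
  have hflatU : letI : Algebra Γ(S, V) Γ(X, U) := (f.appLE V U (hle.trans hU₁V)).hom.toAlgebra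
      letI : Algebra B Γ(X, U) := (MvPolynomial.aeval (R := Γ(S, V)) fun i => res (t₁ i)).toRingHom.toAlgebra
      Module.Flat B Γ(X, U) := by
    letI : Algebra Γ(S, V) Γ(X, U) := (f.appLE V U (hle.trans hU₁V)).hom.toAlgebra
    letI : Algebra B Γ(X, U) := (MvPolynomial.aeval (R := Γ(S, V)) fun i => res (t₁ i)).toRingHom.toAlgebra
    letI : Algebra Γ(X, U₁) Γ(X, U) := res.toAlgebra
    haveI : IsLocalization.Away h Γ(X, U) := hU₁.isLocalization_basicOpen h
    haveI : IsScalarTower B Γ(X, U₁) Γ(X, U) := IsScalarTower.of_algebraMap_eq' (MvPolynomial.ringHom_ext (fun r => by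
        show MvPolynomial.aeval (R := Γ(S, V)) (fun i => res (t₁ i)) (MvPolynomial.C r) =
          res (MvPolynomial.aeval (R := Γ(S, V)) t₁ (MvPolynomial.C r))
        rw [MvPolynomial.aeval_C, MvPolynomial.aeval_C]
        exact RingHom.congr_fun (congrArg CommRingCat.Hom.hom (Scheme.Hom.appLE_map f hU₁V (homOfLE hle).op)).symm r)
      (fun i => by
        show MvPolynomial.aeval (R := Γ(S, V)) (fun i => res (t₁ i)) (MvPolynomial.X i) =
          res (MvPolynomial.aeval (R := Γ(S, V)) t₁ (MvPolynomial.X i))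
        rw [MvPolynomial.aeval_X, MvPolynomial.aeval_X]))
    exact flat_of_away (R := Γ(S, V)) h
  exact ⟨V, hV, U, hU, hle.trans hU₁V, hx, fun i => res (t₁ i), fun y hy => (hW'le (hU₁W' (hle hy))).1,
    fun i => (X.presheaf.germ_res_apply (homOfLE hle) x hx (t₁ i)).trans (ht₁ i), hflatU⟩

/-- The point `x` has a neighbourhood sliced by lifts of a sequence regular on its fibre. -/
theorem exists_slice {X S : Scheme.{u}} (f : X ⟶ S) [LocallyOfFinitePresentation f] (x : X)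
    (hflat : (f.stalkMap x).hom.Flat) (hs : List (X.presheaf.stalk x))
    (hmem : ∀ h ∈ hs, h ∈ IsLocalRing.maximalIdeal (X.presheaf.stalk x))
    (hreg : IsWeaklyRegular
      (X.presheaf.stalk x ⧸ Ideal.map (f.stalkMap x).hom (IsLocalRing.maximalIdeal (S.presheaf.stalk (f x))))
      (hs.map (Ideal.Quotient.mk (Ideal.map (f.stalkMap x).hom (IsLocalRing.maximalIdeal (S.presheaf.stalk (f x)))))))
    (W : X.Opens) (hxW : x ∈ W) :
    ∃ (U : X.Opens) (hU : IsAffineOpen U) (hx : x ∈ U) (hs' : List Γ(X, U)), U ≤ W ∧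
      hs'.map (X.presheaf.germ U x hx) = hs ∧
      IsWeaklyRegular Γ(X, U) hs' ∧
      Mor2.IsRegularClosedImmersion (Spec.map (CommRingCat.ofHom (Ideal.Quotient.mk (Ideal.ofList hs'))) ≫ hU.isoSpec.inv) ∧
      x ∈ Set.range ⇑(Spec.map (CommRingCat.ofHom (Ideal.Quotient.mk (Ideal.ofList hs'))) ≫ hU.fromSpec) ∧
      Flat (Spec.map (CommRingCat.ofHom (Ideal.Quotient.mk (Ideal.ofList hs'))) ≫ hU.fromSpec ≫ f) ∧
      LocallyOfFinitePresentation (Spec.map (CommRingCat.ofHom (Ideal.Quotient.mk (Ideal.ofList hs'))) ≫ hU.fromSpec ≫ f) ∧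
      ∀ (S' : Scheme.{u}) (g : S' ⟶ S), Mor2.IsRegularClosedImmersion
        (pullback.map (Spec.map (CommRingCat.ofHom (Ideal.Quotient.mk (Ideal.ofList hs'))) ≫ hU.isoSpec.inv ≫ U.ι ≫ f) g (U.ι ≫ f) g
          (Spec.map (CommRingCat.ofHom (Ideal.Quotient.mk (Ideal.ofList hs'))) ≫ hU.isoSpec.inv) (𝟙 S') (𝟙 S)
          (Category.comp_id _) ((Category.comp_id g).trans (Category.id_comp g).symm)) := by
  obtain ⟨V, hV, U, hU, hUV, hx, t, hUW, ht, hflatU⟩ := exists_slice_data f x hflat hs hmem hreg W hxW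
  obtain ⟨h1, h2, h3, h4, h5⟩ := slice_of_flat f hV hU hUV t hflatU _ rfl
  have hgerm : (List.ofFn t).map (X.presheaf.germ U x hx) = hs := by
    rw [List.map_ofFn]
    conv_rhs => rw [← List.ofFn_get hs]
    exact congrArg List.ofFn (funext ht)
  refine ⟨U, hU, hx, List.ofFn t, hUW, hgerm, h1, h2, mem_range_slice hU x hx _ fun y hy => ?_, h3, h4, h5⟩
  exact hmem _ (hgerm ▸ List.mem_map.mpr ⟨y, hy, rfl⟩)

end L02.CAlg.QFSlice
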