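import Groth.Agent.L02.CAlg.QFSlice.Fibre
import Groth.Agent.L07.FibreFlat
import Mathlib.RingTheory.ZariskisMainTheorem
import Mathlib.RingTheory.NoetherNormalization
import Mathlib.RingTheory.AdjoinRoot
import Mathlib.RingTheory.Localization.Free
import Mathlib.RingTheory.Localization.Integral
import Mathlib.RingTheory.Jacobson.Ring
import Mathlib.RingTheory.Finiteness.ModuleFinitePresentation
import Mathlib.RingTheory.Spectrum.Prime.Chevalley
import Mathlib.RingTheory.Finiteness.FinitePresentationLocal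
import Mathlib.RingTheory.Flat.FaithfullyFlat.Algebra
import Mathlib.RingTheory.TensorProduct.Pi

/-!
Quasi-finite slices of faithfully flat algebras of finite presentation.
-/

set_option autoImplicit false
set_option linter.style.haveILetI false
universe u

open TensorProduct

namespace L02.CAlg.QFSlice

theorem exists_finite_free {R L : Type u} [CommRing R] [CommRing L] [Algebra R L] :
    ∀ {d : ℕ} (x : Fin d → L), (∀ i, IsIntegral R (x i)) →
      ∃ (R' : Type u) (_ : CommRing R') (_ : Algebra R R'), Module.Free R R' ∧ Module.Finite R R' ∧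
        ∃ (x' : Fin d → R') (ψ : R' →ₐ[R] L), ∀ i, ψ (x' i) = x i
  | 0, x, _ => ⟨R, inferInstance, inferInstance, inferInstance, inferInstance, Fin.elim0, Algebra.ofId R L,
      fun i => i.elim0⟩
  | d + 1, x, hx => by
    obtain ⟨R', _, _, hfree, hfin, x', ψ, hψ⟩ := exists_finite_free (fun i => x i.succ) fun i => hx i.succ
    haveI := hfree; haveI := hfin
    obtain ⟨μ, hμ, hμ0⟩ := hx 0
    haveI := (hμ.map (algebraMap R R')).free_adjoinRoot
    haveI := (hμ.map (algebraMap R R')).finite_adjoinRoot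
    refine ⟨AdjoinRoot (μ.map (algebraMap R R')), inferInstance, inferInstance,
      Module.Free.trans (S := R'), Module.Finite.trans R' _,
      Fin.cons (AdjoinRoot.root _) fun i => AdjoinRoot.of _ (x' i),
      AdjoinRoot.liftAlgHom _ ψ (x 0) ?_, fun i => ?_⟩
    · rw [Polynomial.eval₂_map]
      rw [show ((ψ : R' →+* L)).comp (algebraMap R R') = algebraMap R L from ψ.comp_algebraMap]
      exact hμ0
    · induction i using Fin.cases with
      | zero => simp
      | succ i => simp [hψ]

theorem exists_scale {k : Type u} [Field k] {d : ℕ} (c : Fin d → k) (hc : ∀ i, c i ≠ 0) :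
    ∃ ρ : MvPolynomial (Fin d) k ≃ₐ[k] MvPolynomial (Fin d) k, ∀ i, ρ (MvPolynomial.X i) = c i • MvPolynomial.X i :=
  ⟨AlgEquiv.ofAlgHom (MvPolynomial.aeval fun i => c i • MvPolynomial.X i)
      (MvPolynomial.aeval fun i => (c i)⁻¹ • MvPolynomial.X i)
      (MvPolynomial.algHom_ext fun i => by
        rw [AlgHom.comp_apply, MvPolynomial.aeval_X, map_smul, MvPolynomial.aeval_X, smul_smul]
        simp [hc i])
      (MvPolynomial.algHom_ext fun i => by
        rw [AlgHom.comp_apply, MvPolynomial.aeval_X, map_smul, MvPolynomial.aeval_X, smul_smul]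
        simp [hc i]),
    fun i => MvPolynomial.aeval_X _ i⟩

theorem flat_scale {k T U : Type u} [Field k] [CommRing T] [Algebra k T] [CommRing U] (f : T →+* U) {d : ℕ}
    (c : Fin d → k) (hc : ∀ i, c i ≠ 0) (v : Fin d → T) (h : (f.comp (MvPolynomial.aeval (R := k) v).toRingHom).Flat) :
    (f.comp (MvPolynomial.aeval (R := k) fun i => c i • v i).toRingHom).Flat := by
  obtain ⟨ρ, hρ⟩ := exists_scale c hc
  have e : (MvPolynomial.aeval fun i => c i • v i) = (MvPolynomial.aeval v).comp ρ.toAlgHom :=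
    MvPolynomial.algHom_ext fun i => by simp [hρ]
  rw [e]
  show ((f.comp (MvPolynomial.aeval v).toRingHom).comp ρ.toRingEquiv.toRingHom).Flat
  exact RingHom.Flat.comp (RingHom.Flat.of_bijective ρ.bijective) h

theorem isIntegral_algHom_of_finite {k T W : Type u} [Field k] [CommRing T] [Algebra k T] [CommRing W]
    [Algebra k W] {d : ℕ} (φ : MvPolynomial (Fin d) k →ₐ[k] T) (hφ : φ.Finite) (θ : T →ₐ[k] W)
    (hθ : ∀ i, IsIntegral k (θ (φ (MvPolynomial.X i)))) (t : T) : IsIntegral k (θ t) := by
  let V := integralClosure k W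
  obtain ⟨μ, hμ, hμ0⟩ := hφ.to_isIntegral t
  have hP : ∀ P, θ (φ P) ∈ V := fun P => by
    induction P using MvPolynomial.induction_on with
    | C a => rw [← MvPolynomial.algebraMap_eq, AlgHom.commutes, AlgHom.commutes]; exact V.algebraMap_mem a
    | add P Q hP hQ => rw [map_add, map_add]; exact add_mem hP hQ
    | mul_X P i hP => rw [map_mul, map_mul]; exact mul_mem hP (hθ i)
  let φV : MvPolynomial (Fin d) k →+* V := (θ.comp φ).toRingHom.codRestrict V hP
  refine isIntegral_trans (R := k) (A := V) (θ t) ⟨μ.map φV, hμ.map φV, ?_⟩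
  rw [Polynomial.eval₂_map]
  show Polynomial.eval₂ (θ.toRingHom.comp φ.toRingHom) (θ t) μ = 0
  show Polynomial.eval₂ (θ.toRingHom.comp φ.toRingHom) (θ.toRingHom t) μ = 0
  rw [← Polynomial.hom_eval₂ μ φ.toRingHom θ.toRingHom t]
  show θ (Polynomial.eval₂ φ.toRingHom t μ) = 0
  rw [show Polynomial.eval₂ φ.toRingHom t μ = 0 from hμ0, map_zero]

theorem exists_integral_multiple {R L : Type u} [CommRing R] (p : Ideal R) [p.IsPrime] [CommRing L]
    [Algebra R L] [Algebra p.ResidueField L] [IsScalarTower R p.ResidueField L] {x : L}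
    (hx : IsIntegral p.ResidueField x) :
    ∃ a : R, algebraMap R p.ResidueField a ≠ 0 ∧ IsIntegral R (a • x) := by
  letI : Algebra (R ⧸ p) L := Algebra.compHom L (algebraMap (R ⧸ p) p.ResidueField)
  haveI : IsScalarTower (R ⧸ p) p.ResidueField L := IsScalarTower.of_algebraMap_eq fun x => rfl
  haveI : IsScalarTower R (R ⧸ p) L := IsScalarTower.of_algebraMap_eq fun x => by
    rw [IsScalarTower.algebraMap_apply R p.ResidueField L]; rfl
  haveI : Algebra.IsIntegral R (R ⧸ p) := Algebra.IsIntegral.of_finite R _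
  obtain ⟨⟨m, hm⟩, hint⟩ := hx.exists_multiple_integral_of_isLocalization (nonZeroDivisors (R ⧸ p)) x
  obtain ⟨a, rfl⟩ := Ideal.Quotient.mk_surjective m
  refine ⟨a, fun h => nonZeroDivisors.ne_zero hm (Ideal.Quotient.eq_zero_iff_mem.mpr
    (Ideal.algebraMap_residueField_eq_zero.mp h)), isIntegral_trans (A := R ⧸ p) _ ?_⟩
  rw [← algebraMap_smul (R ⧸ p) a x]
  exact hint

theorem quasiFinite_fibre_of_fractions {R S₁ S₂ : Type u} [CommRing R] (p : Ideal R) [p.IsPrime]
    [CommRing S₁] [Algebra R S₁] [CommRing S₂] [Algebra R S₂] (iL : S₁ →ₐ[R] S₂) (u : S₁) (hu : IsUnit (iL u))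
    (hz : ∀ z : S₂, ∃ (m : ℕ) (w : S₁), z * iL u ^ m = iL w) [Algebra.QuasiFinite p.ResidueField (p.Fiber S₁)] :
    Algebra.QuasiFinite p.ResidueField (p.Fiber S₂) := by
  let f : p.Fiber S₁ →ₐ[p.ResidueField] p.Fiber S₂ :=
    Algebra.TensorProduct.map (AlgHom.id p.ResidueField p.ResidueField) iL
  have hu' : IsUnit (f (1 ⊗ₜ u)) :=
    hu.map (Algebra.TensorProduct.includeRight : S₂ →ₐ[R] p.Fiber S₂)
  have key : ∀ z : p.Fiber S₂, ∃ (m : ℕ) (w : p.Fiber S₁), z * f (1 ⊗ₜ u) ^ m = f w := by
    intro z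
    induction z using TensorProduct.induction_on with
    | zero => exact ⟨0, 0, by rw [zero_mul, map_zero]⟩
    | add a b ha hb =>
      obtain ⟨m, w, ha⟩ := ha
      obtain ⟨m', w', hb⟩ := hb
      refine ⟨m + m', w * (1 ⊗ₜ u) ^ m' + w' * (1 ⊗ₜ u) ^ m, ?_⟩
      rw [map_add, map_mul, map_mul, map_pow, map_pow, ← ha, ← hb]
      ring
    | tmul a z =>
      obtain ⟨m, w, hw⟩ := hz z
      refine ⟨m, a ⊗ₜ w, ?_⟩
      show a ⊗ₜ[R] z * ((1 : p.ResidueField) ⊗ₜ[R] iL u) ^ m = a ⊗ₜ[R] iL w
      rw [Algebra.TensorProduct.tmul_pow, Algebra.TensorProduct.tmul_mul_tmul, one_pow, mul_one, hw]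
  refine Algebra.QuasiFinite.of_forall_exists_mul_mem_range f fun z => ?_
  obtain ⟨m, w, hw⟩ := key z
  exact ⟨(1 ⊗ₜ u) ^ m, by rw [map_pow]; exact hu'.pow m, w, by rw [map_pow]; exact hw.symm⟩

theorem mem_range_of_away {R B R' S : Type u} [CommRing R] [CommRing B] [Algebra R B] [CommRing R'] [Algebra R R']
    [Algebra B R'] [IsScalarTower R B R'] [CommRing S] [Algebra B S] {h : S} (z : R' ⊗[B] Localization.Away h) :
    ∃ (m : ℕ) (w : R' ⊗[B] S),
      z * ((Algebra.TensorProduct.map (AlgHom.id B R') (IsScalarTower.toAlgHom B S (Localization.Away h))).restrictScalars R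
          ((1 : R') ⊗ₜ[B] h)) ^ m =
        (Algebra.TensorProduct.map (AlgHom.id B R') (IsScalarTower.toAlgHom B S (Localization.Away h))).restrictScalars R w := by
  let g := Algebra.TensorProduct.map (AlgHom.id B R') (IsScalarTower.toAlgHom B S (Localization.Away h))
  show ∃ (m : ℕ) (w : R' ⊗[B] S), z * g ((1 : R') ⊗ₜ[B] h) ^ m = g w
  induction z using TensorProduct.induction_on with
  | zero => exact ⟨0, 0, by rw [zero_mul, map_zero]⟩
  | add a b ha hb =>
    obtain ⟨m, w, ha⟩ := ha
    obtain ⟨m', w', hb⟩ := hb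
    refine ⟨m + m', w * ((1 : R') ⊗ₜ[B] h) ^ m' + w' * ((1 : R') ⊗ₜ[B] h) ^ m, ?_⟩
    rw [map_add, map_mul, map_mul, map_pow, map_pow, ← ha, ← hb]
    ring
  | tmul a c =>
    obtain ⟨m, c₀, hc₀⟩ := IsLocalization.Away.surj h c
    refine ⟨m, a ⊗ₜ c₀, ?_⟩
    show a ⊗ₜ[B] c * ((1 : R') ⊗ₜ[B] algebraMap S (Localization.Away h) h) ^ m =
      a ⊗ₜ[B] algebraMap S (Localization.Away h) c₀
    rw [Algebra.TensorProduct.tmul_pow, Algebra.TensorProduct.tmul_mul_tmul, one_pow, mul_one, hc₀]

theorem exists_local {R S : Type u} [CommRing R] [CommRing S] [Algebra R S] [Algebra.FinitePresentation R S]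
    [Module.Flat R S] (p : Ideal R) [p.IsPrime] [Nontrivial (p.Fiber S)] :
    ∃ (S' : Type u) (_ : CommRing S') (_ : Algebra R S'), Algebra.QuasiFinite R S' ∧ Module.Flat R S' ∧
      Algebra.FinitePresentation R S' ∧ Nonempty (S →ₐ[R] S') ∧
      (⟨p, inferInstance⟩ : PrimeSpectrum R) ∈ Set.range (PrimeSpectrum.comap (algebraMap R S')) := by
  classical
  let k := p.ResidueField
  let T := p.Fiber S
  obtain ⟨d, φ₀, hφ₀i, hφ₀⟩ := exists_finite_inj_algHom_of_fg k T
  -- scale the variables so that they come from `S`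
  choose c hc s hs using fun i => Ideal.Fiber.exists_smul_eq_one_tmul p (φ₀ (MvPolynomial.X i))
  have hck : ∀ i, algebraMap R k (c i) ≠ 0 := fun i h => hc i (Ideal.algebraMap_residueField_eq_zero.mp h)
  obtain ⟨ρ, hρ⟩ := exists_scale (fun i => algebraMap R k (c i)) hck
  let φ : MvPolynomial (Fin d) k →ₐ[k] T := MvPolynomial.aeval fun i => (1 : k) ⊗ₜ[R] s i
  have hφe : φ = φ₀.comp ρ.toAlgHom := MvPolynomial.algHom_ext fun i => by
    show φ (MvPolynomial.X i) = φ₀ (ρ (MvPolynomial.X i))
    rw [hρ, map_smul, algebraMap_smul]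
    simp only [φ, MvPolynomial.aeval_X]
    exact (hs i).symm
  have hφ : φ.Finite := hφe ▸ hφ₀.comp (AlgHom.Finite.of_surjective _ ρ.surjective)
  have hφi : Function.Injective φ := hφe ▸ hφ₀i.comp ρ.injective
  -- generic flatness over the polynomial ring
  let P := MvPolynomial (Fin d) k
  letI : Algebra P T := φ.toRingHom.toAlgebra
  haveI : Module.Finite P T := hφ
  haveI : Module.FinitePresentation P T := Module.finitePresentation_of_finite _ _
  haveI : Module.Free (FractionRing P) (LocalizedModule (nonZeroDivisors P) T) := Module.Free.of_divisionRing _ _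
  obtain ⟨r, hr, hfree, -⟩ := Module.FinitePresentation.exists_free_localizedModule_powers (nonZeroDivisors P)
    (LocalizedModule.mkLinearMap (nonZeroDivisors P) T) (FractionRing P)
  let g : T := φ r
  haveI hgflat : Module.Flat P (Localization.Away g) := by
    haveI : Module.Flat P (LocalizedModule.Away r T) := Module.Flat.trans P (Localization (.powers r)) _
    haveI : IsLocalization (Algebra.algebraMapSubmonoid T (Submonoid.powers r)) (Localization.Away g) := by
      rw [Algebra.algebraMapSubmonoid, Submonoid.map_powers]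
      exact inferInstanceAs (IsLocalization (Submonoid.powers g) (Localization.Away g))
    haveI := (isLocalizedModule_iff_isLocalization (S := Submonoid.powers r) (A := T)
      (Aₛ := Localization.Away g)).mpr inferInstance
    exact Module.Flat.of_linearEquiv (IsLocalizedModule.iso (Submonoid.powers r)
      (IsScalarTower.toAlgHom P T (Localization.Away g)).toLinearMap).symm
  have hgφ : ((algebraMap T (Localization.Away g)).comp φ.toRingHom).Flat := RingHom.flat_algebraMap_iff.mpr hgflat
  -- a closed point of the fibre outside the zeros of `g`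
  haveI : IsJacobsonRing T := isJacobsonRing_of_finiteType (A := k)
  obtain ⟨n, hn, hgn⟩ : ∃ n : Ideal T, n.IsMaximal ∧ g ∉ n := by
    by_contra! H
    have h0 : g ∈ (⊥ : Ideal T).radical.jacobson := Submodule.mem_sInf.mpr fun n hn => H n hn.2
    rw [isJacobsonRing_iff.mp ‹IsJacobsonRing T› _ (Ideal.radical_isRadical _)] at h0
    obtain ⟨m, hm⟩ := h0
    rw [Ideal.mem_bot, ← map_pow, map_eq_zero_iff _ hφi] at hm
    exact nonZeroDivisors.ne_zero hr (pow_eq_zero_iff'.mp hm).1
  obtain ⟨L, _, _, π, _, hgπ⟩ : ∃ (L : Type u) (_ : Field L) (_ : Algebra k L) (π : T →ₐ[k] L),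
      Module.Finite k L ∧ π g ≠ 0 :=
    letI := Ideal.Quotient.field n
    ⟨T ⧸ n, inferInstance, inferInstance, Ideal.Quotient.mkₐ k n,
      finite_of_finite_type_of_isJacobsonRing k (T ⧸ n), fun h0 => hgn (Ideal.Quotient.eq_zero_iff_mem.mp h0)⟩
  letI : Algebra R L := Algebra.compHom L (algebraMap R k)
  haveI : IsScalarTower R k L := IsScalarTower.of_algebraMap_eq fun x => rfl
  choose e' he'p he using fun i => exists_integral_multiple p (Algebra.IsIntegral.isIntegral (R := k) (π (1 ⊗ₜ s i)))
  let t : Fin d → S := fun i => e' i • s i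
  have ht1 : ∀ i, (1 : k) ⊗ₜ[R] t i = algebraMap R k (e' i) • ((1 : k) ⊗ₜ[R] s i) := fun i => by
    rw [algebraMap_smul, TensorProduct.tmul_smul]
  have htint : ∀ i, IsIntegral R (π (1 ⊗ₜ t i)) := fun i => by
    rw [ht1, map_smul, algebraMap_smul]
    exact he i
  let φ' : P →ₐ[k] T := MvPolynomial.aeval fun i => (1 : k) ⊗ₜ[R] t i
  have hφ'flat : ((algebraMap T (Localization.Away g)).comp φ'.toRingHom).Flat := by
    have := flat_scale (algebraMap T (Localization.Away g)) (fun i => algebraMap R k (e' i)) he'p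
      (fun i => (1 : k) ⊗ₜ[R] s i) hgφ
    simp only [φ', ht1]
    exact this
  have hφ' : φ'.Finite := by
    obtain ⟨σ, hσ⟩ := exists_scale (fun i => algebraMap R k (e' i)) he'p
    have : φ' = φ.comp σ.toAlgHom := MvPolynomial.algHom_ext fun i => by simp [φ', φ, hσ, ht1, AlgHom.map_smul_of_tower]
    exact this ▸ hφ.comp (AlgHom.Finite.of_surjective _ σ.surjective)
  obtain ⟨R', _, _, _, _, x', ψ', hψ'⟩ := exists_finite_free (fun i => π (1 ⊗ₜ t i)) htint
  let B := MvPolynomial (Fin d) R
  letI : Algebra B S := (MvPolynomial.aeval t).toRingHom.toAlgebra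
  haveI : IsScalarTower R B S := IsScalarTower.of_algebraMap_eq fun x => ((MvPolynomial.aeval t).commutes x).symm
  have hX : ∀ i, algebraMap B S (MvPolynomial.X i) = t i := fun i => MvPolynomial.aeval_X t i
  have hgB : ((algebraMap T (Localization.Away g)).comp
      (MvPolynomial.aeval (R := k) fun i => (1 : k) ⊗ₜ[R] algebraMap B S (MvPolynomial.X i)).toRingHom).Flat := by
    rw [show (fun i => (1 : k) ⊗ₜ[R] algebraMap B S (MvPolynomial.X i)) = fun i => (1 : k) ⊗ₜ[R] t i from
      funext fun i => congrArg (fun z => (1 : k) ⊗ₜ[R] z) (hX i)]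
    exact hφ'flat
  obtain ⟨h, hh, hflat⟩ := exists_flat_away_of_fibre (R := R) (S := S) (L := L) (d := d) p g π.toRingHom hgπ hgB
  haveI := hflat
  letI : Algebra B R' := (MvPolynomial.aeval x').toRingHom.toAlgebra
  haveI : IsScalarTower R B R' := IsScalarTower.of_algebraMap_eq fun x => ((MvPolynomial.aeval x').commutes x).symm
  let Sh := Localization.Away h
  haveI : Algebra.FinitePresentation R Sh :=
    haveI : Algebra.FinitePresentation S Sh := IsLocalization.Away.finitePresentation h
    Algebra.FinitePresentation.trans R S Sh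
  haveI : Algebra.FinitePresentation B Sh := Algebra.FinitePresentation.of_restrict_scalars_finitePresentation R B Sh
  haveI : Module.FinitePresentation R R' := Module.finitePresentation_of_projective R R'
  let S₂ := R' ⊗[B] Sh
  haveI : Algebra.FinitePresentation R S₂ := Algebra.FinitePresentation.trans R R' S₂
  haveI : Module.Flat R S₂ :=
    haveI := Groth.L07.FibreFlat.flat_tensor_of_flat (R := R) (B := B) Sh R'
    Module.Flat.of_linearEquiv ((TensorProduct.comm B R' Sh).restrictScalars R)
  -- the point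
  let ψS : S →ₐ[R] L := (π.restrictScalars R).comp Algebra.TensorProduct.includeRight
  letI : Algebra B L := (ψS.toRingHom.comp (algebraMap B S)).toAlgebra
  haveI : IsScalarTower R B L := IsScalarTower.of_algebraMap_eq fun x => by
    show _ = ψS (algebraMap B S (algebraMap R B x))
    rw [← IsScalarTower.algebraMap_apply, AlgHom.commutes]
  let ψR : R' →ₐ[B] L :=
    { ψ'.toRingHom with
      commutes' := fun b => by
        refine RingHom.congr_fun (show ψ'.toRingHom.comp (algebraMap B R') = algebraMap B L from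
          MvPolynomial.ringHom_ext (fun x => ?_) fun i => ?_) b
        · show ψ' (MvPolynomial.aeval x' (MvPolynomial.C x)) = ψS (MvPolynomial.aeval t (MvPolynomial.C x))
          simp
        · show ψ' (MvPolynomial.aeval x' (MvPolynomial.X i)) = ψS (MvPolynomial.aeval t (MvPolynomial.X i))
          rw [MvPolynomial.aeval_X, MvPolynomial.aeval_X]
          exact hψ' i }
  let ψh : Sh →+* L := IsLocalization.Away.lift h (g := ψS.toRingHom) (isUnit_iff_ne_zero.mpr hh)
  let ψB : Sh →ₐ[B] L :=
    { ψh with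
      commutes' := fun b => by
        show ψh (algebraMap B Sh b) = _
        rw [IsScalarTower.algebraMap_apply B S Sh]
        exact IsLocalization.Away.lift_eq h _ _ }
  let Ψ : S₂ →ₐ[B] L := Algebra.TensorProduct.lift ψR ψB fun _ _ => Commute.all _ _
  let Ψ' : S₂ →ₐ[R] L := Ψ.restrictScalars R
  let q : Ideal S₂ := RingHom.ker Ψ'.toRingHom
  haveI : q.IsPrime := RingHom.ker_isPrime _
  have hqp : q.under R = p := by
    ext x
    rw [Ideal.under_def, Ideal.mem_comap, RingHom.mem_ker]
    show Ψ' (algebraMap R S₂ x) = 0 ↔ _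
    rw [AlgHom.commutes, IsScalarTower.algebraMap_apply R k L, map_eq_zero, Ideal.algebraMap_residueField_eq_zero]
  haveI : q.LiesOver p := ⟨hqp.symm⟩
  -- the fibre is quasi-finite
  haveI : Algebra.QuasiFinite k (p.Fiber S₂) := by
    let S₁ := R' ⊗[B] S
    haveI : Algebra.FinitePresentation B S := Algebra.FinitePresentation.of_restrict_scalars_finitePresentation R B S
    haveI : Algebra.FiniteType R S₁ := Algebra.FiniteType.trans (S := R') inferInstance inferInstance
    let W := p.Fiber S₁
    let iS : S →ₐ[R] S₁ := (Algebra.TensorProduct.includeRight : S →ₐ[B] S₁).restrictScalars R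
    let θ : T →ₐ[k] W := Algebra.TensorProduct.map (AlgHom.id k k) iS
    have hR' : ∀ a : R', IsIntegral k ((1 : k) ⊗ₜ[R] ((a ⊗ₜ[B] (1 : S)) : S₁)) := fun a =>
      (((Algebra.IsIntegral.isIntegral (R := R) a).map
        (Algebra.TensorProduct.includeLeft : R' →ₐ[R] S₁)).map
          (Algebra.TensorProduct.includeRight : S₁ →ₐ[R] W)).tower_top
    have hθ : ∀ i, IsIntegral k (θ (φ' (MvPolynomial.X i))) := fun i => by
      rw [show φ' (MvPolynomial.X i) = 1 ⊗ₜ t i from MvPolynomial.aeval_X _ _]
      show IsIntegral k ((1 : k) ⊗ₜ[R] (((1 : R') ⊗ₜ[B] t i) : S₁))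
      convert hR' (x' i) using 2
      rw [← hX, Algebra.algebraMap_eq_smul_one, ← TensorProduct.smul_tmul, ← Algebra.algebraMap_eq_smul_one]
      congr 1
      exact MvPolynomial.aeval_X _ _
    haveI : Algebra.IsIntegral k W := ⟨fun w => by
      induction w using TensorProduct.induction_on with
      | zero => exact isIntegral_zero
      | add a b ha hb => exact ha.add hb
      | tmul a z =>
        rw [← mul_one a, ← smul_eq_mul, ← TensorProduct.smul_tmul']
        refine IsIntegral.smul _ ?_
        induction z using TensorProduct.induction_on with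
        | zero => rw [TensorProduct.tmul_zero]; exact isIntegral_zero
        | add a b ha hb => rw [TensorProduct.tmul_add]; exact ha.add hb
        | tmul a b =>
          have : (1 : k) ⊗ₜ[R] ((a ⊗ₜ[B] b) : S₁) = ((1 : k) ⊗ₜ[R] ((a ⊗ₜ[B] (1 : S)) : S₁)) * θ (1 ⊗ₜ b) := by
            show _ = _ * ((1 : k) ⊗ₜ[R] (((1 : R') ⊗ₜ[B] b) : S₁))
            simp
          rw [this]
          exact (hR' a).mul (isIntegral_algHom_of_finite φ' hφ' θ hθ _)⟩
    haveI : Module.Finite k W := Algebra.IsIntegral.finite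
    let iL : S₁ →ₐ[R] S₂ :=
      (Algebra.TensorProduct.map (AlgHom.id B R') (IsScalarTower.toAlgHom B S Sh)).restrictScalars R
    refine quasiFinite_fibre_of_fractions p iL ((1 : R') ⊗ₜ[B] h)
      ((IsLocalization.Away.algebraMap_isUnit h).map (Algebra.TensorProduct.includeRight : Sh →ₐ[B] S₂))
      fun z => ?_
    exact mem_range_of_away z
  let ι : k →ₐ[R] L := IsScalarTower.toAlgHom R k L
  let Qh : p.Fiber S₂ →ₐ[R] L := Algebra.TensorProduct.lift ι Ψ' fun _ _ => Commute.all _ _
  haveI : (RingHom.ker Qh.toRingHom).IsPrime := RingHom.ker_isPrime _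
  haveI : Algebra.QuasiFiniteAt R q := Algebra.QuasiFiniteAt.of_quasiFiniteAt_residueField p q
    (RingHom.ker Qh.toRingHom) (by
      ext x
      rw [Ideal.mem_comap, RingHom.mem_ker, RingHom.mem_ker]
      show Qh (1 ⊗ₜ x) = 0 ↔ Ψ' x = 0
      rw [Algebra.TensorProduct.lift_tmul, map_one, one_mul])
  obtain ⟨S'', hS'', r', hr', hbij⟩ := Algebra.QuasiFiniteAt.exists_fg_and_exists_notMem_and_awayMap_bijective
    (R := R) q
  haveI : Module.Finite R S'' := ⟨(Submodule.fg_top _).mpr hS''⟩
  haveI : Algebra.QuasiFinite R (Localization.Away r') := .trans _ S'' _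
  let S₃ := Localization.Away (S''.val r')
  haveI : IsLocalization.Away r'.1 S₃ := inferInstanceAs (IsLocalization.Away (S''.val r') S₃)
  haveI : Algebra.QuasiFinite R S₃ :=
    by
      let fa : Localization.Away r' →ₐ[R] S₃ := Localization.awayMapₐ S''.val r'
      exact Algebra.QuasiFinite.of_surjective_algHom fa (show Function.Surjective fa from hbij.2)
  haveI : Module.Flat R S₃ := Module.Flat.trans R S₂ S₃
  haveI : Algebra.FinitePresentation R S₃ :=
    haveI : Algebra.FinitePresentation S₂ S₃ := IsLocalization.Away.finitePresentation r'.1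
    Algebra.FinitePresentation.trans R S₂ S₃
  refine ⟨S₃, inferInstance, inferInstance, inferInstance, inferInstance, inferInstance,
    ⟨(IsScalarTower.toAlgHom R S₂ S₃).comp (((Algebra.TensorProduct.includeRight : Sh →ₐ[B] S₂).restrictScalars R).comp
      (IsScalarTower.toAlgHom R S Sh))⟩, ?_⟩
  obtain ⟨q', hq'⟩ := (PrimeSpectrum.localization_away_comap_range S₃ r'.1).ge
    (show (⟨q, inferInstance⟩ : PrimeSpectrum S₂) ∈ PrimeSpectrum.basicOpen r'.1 from hr')
  refine ⟨q', ?_⟩
  rw [IsScalarTower.algebraMap_eq R S₂ S₃, PrimeSpectrum.comap_comp_apply, hq']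
  exact PrimeSpectrum.ext hqp

theorem main (R : Type u) [CommRing R]
    (S : Type u) [CommRing S] [Algebra R S] [Module.FaithfullyFlat R S]
    [Algebra.FinitePresentation R S] :
    ∃ (S' : Type u) (_ : CommRing S') (_ : Algebra R S'),
      Algebra.QuasiFinite R S' ∧ Algebra.FiniteType R S' ∧ Module.FaithfullyFlat R S' ∧
        Algebra.FinitePresentation R S' ∧ Nonempty (S →ₐ[R] S') := by
  classical
  have hloc : ∀ P : PrimeSpectrum R, ∃ (S' : Type u) (_ : CommRing S') (_ : Algebra R S'),
      Algebra.QuasiFinite R S' ∧ Module.Flat R S' ∧ Algebra.FinitePresentation R S' ∧ Nonempty (S →ₐ[R] S') ∧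
      P ∈ Set.range (PrimeSpectrum.comap (algebraMap R S')) := fun P => by
    obtain ⟨Q, hQ⟩ := PrimeSpectrum.comap_surjective_of_faithfullyFlat (B := S) P
    haveI : Nontrivial (P.asIdeal.Fiber S) :=
      (PrimeSpectrum.preimageEquivFiber R S P ⟨Q, hQ⟩).nontrivial
    exact exists_local P.asIdeal
  choose A hA hAl hqf hfl hfp hhom hmem using hloc
  have hopen : ∀ P, IsOpen (Set.range (PrimeSpectrum.comap (algebraMap R (A P)))) := fun P => by
    haveI := hfl P; haveI := hfp P
    exact (PrimeSpectrum.isOpenMap_comap_of_hasGoingDown_of_finitePresentation (R := R) (S := A P)).isOpen_range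
  obtain ⟨F, hF⟩ := isCompact_univ.elim_finite_subcover _ hopen fun P _ => Set.mem_iUnion.mpr ⟨P, hmem P⟩
  let S' := ∀ P : F, A P
  haveI : ∀ P : F, Module.Flat R (A P) := fun P => hfl P
  haveI : ∀ P : F, Algebra.FinitePresentation R (A P) := fun P => hfp P
  haveI : ∀ P : F, Algebra.QuasiFinite R (A P) := fun P => hqf P
  haveI : Module.Flat R S' :=
    Module.Flat.of_linearEquiv (DFinsupp.linearEquivFunOnFintype (R := R) (M := fun P : F => A P)).symm
  haveI : Module.FaithfullyFlat R S' := Module.FaithfullyFlat.of_comap_surjective fun P => by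
    obtain ⟨i, hi, Q, hQ⟩ : ∃ i ∈ F, P ∈ Set.range (PrimeSpectrum.comap (algebraMap R (A i))) := by
      simpa using hF (Set.mem_univ P)
    exact ⟨PrimeSpectrum.comap (Pi.evalRingHom (fun P : F => A P) ⟨i, hi⟩) Q,
      (PrimeSpectrum.comap_comp_apply _ _ Q).symm.trans hQ⟩
  haveI : Algebra.QuasiFinite R S' := ⟨fun P _ =>
    Module.Finite.equiv (Algebra.TensorProduct.piRight R P.ResidueField P.ResidueField
      fun P : F => A P).symm.toLinearEquiv⟩
  exact ⟨S', inferInstance, inferInstance, inferInstance, inferInstance, inferInstance, inferInstance,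
    ⟨AlgHom.pi fun P : F => (hhom P).some⟩⟩

end L02.CAlg.QFSlice
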